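import Groth.Agent.AVDualCx.Core
import Groth.Agent.SkDesc.Basic

/-!
# The algebra of a family over an artinian thickening
-/

noncomputable section

set_option autoImplicit false
set_option linter.style.haveILetI false
set_option linter.unusedSectionVars false
set_option maxHeartbeats 800000

universe u

open CategoryTheory IsLocalRing
open scoped TensorProduct
open TensorProduct

namespace Groth.Agent.AVDualExist

open Groth.Agent Groth.Agent.AVDualCx

section Mod

variable {S : Type u} [CommRing S] [IsLocalRing S] [IsNoetherianRing S]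
  (S' : Type u) [CommRing S'] [Algebra S S'] {P : CochainComplex (ModuleCat.{u} S) ℤ} {g : ℕ}

/-- A complex extended along an algebra. -/
def extCx (P : CochainComplex (ModuleCat.{u} S) ℤ) : CochainComplex (ModuleCat.{u} S') ℤ where
  X i := ModuleCat.of S' (S' ⊗[S] P.X i)
  d i j := ModuleCat.ofHom ((P.d i j).hom.baseChange S')
  shape i j h := by
    rw [P.shape i j h]
    ext x
    simp
  d_comp_d' i j l _ _ := by
    have h : ((P.d j l).hom.baseChange S') ∘ₗ ((P.d i j).hom.baseChange S') = 0 := by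
      rw [← LinearMap.baseChange_comp, show (P.d j l).hom ∘ₗ (P.d i j).hom = 0 from
        congrArg ModuleCat.Hom.hom (P.d_comp_d i j l), LinearMap.baseChange_zero]
    exact ModuleCat.hom_ext h

variable {S'} in
theorem subsingleton_tensor {M : Type u} [AddCommGroup M] [Module S M] [Subsingleton M] :
    Subsingleton (S' ⊗[S] M) :=
  subsingleton_of_forall_eq 0 fun z => by
    induction z using TensorProduct.induction_on with
    | zero => rfl
    | add a b ha hb => rw [ha, hb, add_zero]
    | tmul a b => rw [Subsingleton.elim b 0, TensorProduct.tmul_zero]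

/-- A homotopy identity after extension. -/
theorem ext_homotopy {M N L : Type u} [AddCommGroup M] [Module S M] [AddCommGroup N] [Module S N]
    [AddCommGroup L] [Module S L] (d : M →ₗ[S] N) (d' : N →ₗ[S] L) (h : N →ₗ[S] M) (h' : L →ₗ[S] N) (s : S)
    (e : ∀ v, s • v = d (h v) + h' (d' v)) (x : S' ⊗[S] N) (hx : d'.baseChange S' x = 0) :
    d.baseChange S' (h.baseChange S' x) = algebraMap S S' s • x := by
  have e0 : s • (LinearMap.id : N →ₗ[S] N) = d ∘ₗ h + h' ∘ₗ d' := LinearMap.ext e
  have e' := congrArg (fun l => l.baseChange S' x) e0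
  simp only [LinearMap.baseChange_add, LinearMap.baseChange_comp, LinearMap.add_apply, LinearMap.comp_apply,
    hx, map_zero, add_zero] at e'
  rw [← e', LinearMap.baseChange_smul, LinearMap.baseChange_id, LinearMap.smul_apply, LinearMap.id_apply,
    algebraMap_smul]

variable [IsLocalRing S'] [IsNoetherianRing S'] (hsurj : Function.Surjective (algebraMap S S'))

include hsurj in
theorem extCx_good (hP : Good P g) : Good (extCx S' P) g := by
  haveI hfree : ∀ i, Module.Finite S (P.X i) := fun i => (hP.free i).1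
  haveI hfree' : ∀ i, Module.Free S (P.X i) := fun i => (hP.free i).2
  have hloc : ∀ r ∈ maximalIdeal S, algebraMap S S' r ∈ maximalIdeal S' := fun r hr => by
    haveI : IsLocalHom (algebraMap S S') := IsLocalHom.of_surjective _ hsurj
    exact map_nonunit (algebraMap S S') r hr
  refine ⟨fun i => ⟨inferInstanceAs (Module.Finite S' (S' ⊗[S] P.X i)),
    inferInstanceAs (Module.Free S' (S' ⊗[S] P.X i))⟩, fun i hi => ?_, fun i x => ?_, fun r hr p => ?_⟩
  · haveI := hP.bdd i hi
    exact subsingleton_tensor (S' := S')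
  · show ((P.d i (i + 1)).hom.baseChange S') x ∈ maximalIdeal S' • (⊤ : Submodule S' (S' ⊗[S] P.X (i + 1)))
    induction x using TensorProduct.induction_on with
    | zero => rw [map_zero]; exact Submodule.zero_mem _
    | add a b ha hb => rw [map_add]; exact Submodule.add_mem _ ha hb
    | tmul a b =>
      rw [LinearMap.baseChange_tmul]
      refine Submodule.smul_induction_on (p := fun y => a ⊗ₜ[S] y ∈ maximalIdeal S' • (⊤ : Submodule S' (S' ⊗[S] P.X (i + 1))))
        (hP.min i b) (fun r hr y _ => ?_) (fun y z hy hz => by rw [TensorProduct.tmul_add]; exact Submodule.add_mem _ hy hz)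
      rw [TensorProduct.tmul_smul, ← algebraMap_smul S' r (a ⊗ₜ[S] y)]
      exact Submodule.smul_mem_smul (hloc r hr) trivial
  · obtain ⟨r₀, rfl⟩ := hsurj r
    have hr₀ : r₀ ∈ maximalIdeal S := (mem_maximalIdeal _).2 fun hu => (mem_maximalIdeal _).1 hr (hu.map _)
    by_cases hp : -1 ≤ p + 1
    · obtain ⟨n, H, hh⟩ := hP.exists_null' hr₀
      refine ⟨n, fun x hx => ⟨((H (p + 1) p).baseChange S') x, ?_⟩⟩
      have := ext_homotopy S' (P.d p (p + 1)).hom (P.d (p + 1) (p + 1 + 1)).hom (H (p + 1) p) (H (p + 1 + 1) (p + 1))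
        (r₀ ^ n) (hh p (p + 1) (p + 1 + 1) rfl rfl hp) x hx
      rw [map_pow] at this
      exact this
    · refine ⟨0, fun x _ => ⟨0, ?_⟩⟩
      haveI : Subsingleton ((extCx S' P).X (p + 1)) := by
        haveI := hP.bdd (p + 1) (Or.inl (by omega))
        exact subsingleton_tensor (S' := S')
      exact Subsingleton.elim _ _

include hsurj in
/-- **The key inclusion.** -/
theorem inf_le_mul (hP : Good P g) (e₀ : P.X 0 ≃ₗ[S] S) (hdepth : LocCoh.depth S' S' = g) :
    RingHom.ker (algebraMap S S') ⊓ dualIdeal P (e₀.symm 1) ≤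
      RingHom.ker (algebraMap S S') * dualIdeal P (e₀.symm 1) := by
  let b := RingHom.ker (algebraMap S S')
  let e := e₀.symm 1
  haveI : ∀ i, Module.Finite S (P.X i) := fun i => (hP.free i).1
  haveI : ∀ i, Module.Free S (P.X i) := fun i => (hP.free i).2
  haveI : Module.Projective S (P.X 2) := Module.Projective.of_free
  rintro _ ⟨hker, φ, rfl⟩
  -- reduce the functional
  let φ' : Module.Dual S' (S' ⊗[S] P.X 1) := (AlgebraTensorModule.rid S S' S').toLinearMap ∘ₗ LinearMap.baseChange S' φ
  have hgood := extCx_good S' hsurj hP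
  have hφ : (show Module.Dual S' ((extCx S' P).X ((0 + 1 : ℕ) : ℤ)) from φ') ∈ LinearMap.ker ((extCx S' P).d ((0 : ℕ) : ℤ) ((0 + 1 : ℕ) : ℤ)).hom.dualMap := by
    refine LinearMap.mem_ker.2 (LinearMap.ext fun x => ?_)
    show φ' (((P.d 0 1).hom.baseChange S') x) = 0
    induction x using TensorProduct.induction_on with
    | zero => rw [map_zero, map_zero]
    | add a c ha hc => rw [map_add, map_add, ha, hc, add_zero]
    | tmul a v =>
      obtain ⟨w, rfl⟩ : ∃ w : S, w • e = v := ⟨e₀ v, by
        apply e₀.injective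
        simp [e]⟩
      rw [LinearMap.baseChange_tmul]
      show (AlgebraTensorModule.rid S S' S') ((LinearMap.baseChange S' φ) (a ⊗ₜ[S] _)) = 0
      rw [LinearMap.baseChange_tmul, AlgebraTensorModule.rid_tmul, map_smul, map_smul, smul_assoc]
      have h0 : algebraMap S S' (φ ((P.d 0 1).hom e)) = 0 := hker
      rw [show φ ((P.d 0 1).hom e) • a = algebraMap S S' (φ ((P.d 0 1).hom e)) • a from (algebraMap_smul S' _ a).symm,
        h0, zero_smul, smul_zero]
  rw [hgood.dual_exact hdepth 0] at hφ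
  obtain ⟨ψ', hψ'⟩ := hφ
  -- lift
  obtain ⟨ψ, hψ⟩ := Module.projective_lifting_property (Algebra.linearMap S S') ((show Module.Dual S' (S' ⊗[S] P.X 2) from ψ').restrictScalars S ∘ₗ
    TensorProduct.mk S S' (P.X 2) 1) hsurj
  let δ : P.X 1 →ₗ[S] S := φ - ψ ∘ₗ (P.d 1 2).hom
  have hδ : ∀ v, δ v ∈ b := fun v => by
    have h1 : algebraMap S S' (ψ ((P.d 1 2).hom v)) = ψ' ((1 : S') ⊗ₜ[S] (P.d 1 2).hom v) :=
      LinearMap.congr_fun hψ _
    have h2 : φ' ((1 : S') ⊗ₜ[S] v) = ψ' ((1 : S') ⊗ₜ[S] (P.d 1 2).hom v) := by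
      rw [← hψ']
      rfl
    have h3 : φ' ((1 : S') ⊗ₜ[S] v) = algebraMap S S' (φ v) := by
      show (AlgebraTensorModule.rid S S' S') ((LinearMap.baseChange S' φ) ((1 : S') ⊗ₜ[S] v)) = _
      rw [LinearMap.baseChange_tmul, AlgebraTensorModule.rid_tmul, Algebra.algebraMap_eq_smul_one]
    rw [RingHom.mem_ker, show δ v = φ v - ψ ((P.d 1 2).hom v) from rfl, map_sub, h1, ← h3, h2, sub_self]
  have heq : φ ((P.d 0 1).hom e) = δ ((P.d 0 1).hom e) := by
    show _ = φ _ - ψ ((P.d 1 2).hom ((P.d 0 1).hom e))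
    rw [← ConcreteCategory.comp_apply, P.d_comp_d]
    simp
  show φ ((P.d 0 1).hom e) ∈ b * dualIdeal P e
  rw [heq]
  let B := Module.Free.chooseBasis S (P.X 1)
  rw [← B.sum_repr ((P.d 0 1).hom e), map_sum]
  refine Ideal.sum_mem _ fun j _ => ?_
  rw [map_smul, smul_eq_mul, _root_.mul_comm (B.repr ((P.d 0 1).hom e) j)]
  exact Ideal.mul_mem_mul (hδ _) (show B.coord j ((P.d 0 1).hom e) ∈ dualIdeal P e from ⟨B.coord j, rfl⟩)

end Mod

section Tensor

variable {k O R : Type u} [Field k] [CommRing O] [Algebra k O] [CommRing R] [Algebra k R]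

variable [IsLocalRing R] [Module.Finite k R] (εR : R →ₐ[k] k)

theorem aug_eq_zero {r : R} (hr : r ∈ maximalIdeal R) : εR r = 0 := by
  by_contra h
  have hs : Function.Surjective εR.toRingHom := fun x => ⟨algebraMap k R x, εR.commutes x⟩
  have hmax : (RingHom.ker εR.toRingHom).IsMaximal := RingHom.ker_isMaximal_of_surjective _ hs
  exact h (show r ∈ RingHom.ker εR.toRingHom by rwa [eq_maximalIdeal hmax])

theorem sub_aug_mem (r : R) : r - algebraMap k R (εR r) ∈ maximalIdeal R := by
  refine (mem_maximalIdeal _).2 fun hu => ?_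
  have := hu.map εR
  rw [map_sub, εR.commutes, Algebra.algebraMap_self, RingHom.id_apply, sub_self] at this
  exact not_isUnit_zero this

include εR in
/-- The ideal of the closed fibre of `O ⊗ R` consists of nilpotents. -/
theorem isNilpotent_map (R' : Type u) [CommRing R'] [Algebra k R'] (f : R →ₐ[k] R') {x : O ⊗[k] R'}
    (hx : x ∈ (maximalIdeal R).map ((Algebra.TensorProduct.includeRight : R' →ₐ[k] O ⊗[k] R').toRingHom.comp f.toRingHom)) :
    IsNilpotent x := by
  haveI : IsArtinianRing R := IsArtinianRing.of_finite k R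
  have hle : (maximalIdeal R).map ((Algebra.TensorProduct.includeRight : R' →ₐ[k] O ⊗[k] R').toRingHom.comp f.toRingHom) ≤
      nilradical (O ⊗[k] R') := by
    rw [Ideal.map_le_iff_le_comap]
    intro r hr
    have hn : IsNilpotent r := by
      obtain ⟨n, hn⟩ := IsArtinianRing.isNilpotent_jacobson_bot (R := R)
      rw [jacobson_eq_maximalIdeal ⊥ bot_ne_top] at hn
      have h := Ideal.pow_mem_pow hr n
      rw [hn] at h
      exact ⟨n, h⟩
    exact hn.map _
  exact mem_nilradical.1 (hle hx)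

/-- Reduction of `O ⊗ R` to the closed fibre. -/
def toFib : O ⊗[k] R →ₐ[k] O :=
  (Algebra.TensorProduct.lift (AlgHom.id k O) ((Algebra.ofId k O).comp εR) fun _ _ => Commute.all _ _)

theorem toFib_tmul (o : O) (r : R) : toFib εR (o ⊗ₜ[k] r) = o * algebraMap k O (εR r) := by
  simp [toFib]

theorem sub_toFib_mem (x : O ⊗[k] R) :
    x - toFib εR x ⊗ₜ[k] (1 : R) ∈
      (maximalIdeal R).map (Algebra.TensorProduct.includeRight : R →ₐ[k] O ⊗[k] R).toRingHom := by
  induction x using TensorProduct.induction_on with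
  | zero => simp
  | add a b ha hb =>
    rw [map_add, TensorProduct.add_tmul, add_sub_add_comm]
    exact Ideal.add_mem _ ha hb
  | tmul o r =>
    rw [toFib_tmul, show (o * algebraMap k O (εR r)) ⊗ₜ[k] (1 : R) = o ⊗ₜ[k] algebraMap k R (εR r) by
      rw [Algebra.algebraMap_eq_smul_one, Algebra.algebraMap_eq_smul_one, mul_smul_comm, mul_one,
        TensorProduct.smul_tmul], ← TensorProduct.tmul_sub,
      show o ⊗ₜ[k] (r - algebraMap k R (εR r)) = (o ⊗ₜ[k] (1 : R)) * ((1 : O) ⊗ₜ[k] (r - algebraMap k R (εR r))) by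
        rw [Algebra.TensorProduct.tmul_mul_tmul, mul_one, one_mul]]
    exact Ideal.mul_mem_left _ _ (Ideal.mem_map_of_mem _ (sub_aug_mem εR r))

include εR in
/-- `O ⊗ R` is local when `O` is. -/
theorem isLocalRing_tensor [IsLocalRing O] : IsLocalRing (O ⊗[k] R) := by
  let f : O ⊗[k] R →+* O := (toFib εR).toRingHom
  haveI : IsLocalHom f := ⟨fun x hx => by
    have hu : IsUnit (toFib εR x ⊗ₜ[k] (1 : R)) :=
      hx.map (Algebra.TensorProduct.includeLeftRingHom (R := k) (A := O) (B := R))
    have := IsNilpotent.isUnit_add_left_of_commute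
      (isNilpotent_map εR R (AlgHom.id k R) (by
        simpa using sub_toFib_mem εR x)) hu (Commute.all _ _)
    rwa [add_sub_cancel] at this⟩
  exact RingHom.domain_isLocalRing f

variable [IsLocalRing O] [IsNoetherianRing O] (εO : O →ₐ[k] k)

include εR in
/-- The depth of `O ⊗ R'` for a proper quotient `R'` of `R`. -/
theorem depth_tensor (a : Ideal R) (ha : a ≤ maximalIdeal R) :
    ∃ _ : IsLocalRing (O ⊗[k] (R ⧸ a)),
      LocCoh.depth (O ⊗[k] (R ⧸ a)) (O ⊗[k] (R ⧸ a)) = LocCoh.depth O O := by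
  haveI : Nontrivial (R ⧸ a) := Ideal.Quotient.nontrivial_iff.2 fun h =>
    (maximalIdeal.isMaximal R).ne_top (top_le_iff.1 (h ▸ ha))
  haveI : IsLocalRing (R ⧸ a) := IsLocalRing.of_surjective' _ Ideal.Quotient.mk_surjective
  let ε' : R ⧸ a →ₐ[k] k := Ideal.Quotient.liftₐ a εR fun r hr => aug_eq_zero εR (ha hr)
  haveI := isLocalRing_tensor (O := O) ε'
  refine ⟨inferInstance, ?_⟩
  haveI : IsNoetherianRing (O ⊗[k] (R ⧸ a)) :=
    IsNoetherianRing.of_finite O (O ⊗[k] (R ⧸ a))
  haveI : IsLocalHom (algebraMap O (O ⊗[k] (R ⧸ a))) := ⟨fun o ho => by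
    have h := ho.map (toFib ε')
    rwa [Algebra.TensorProduct.algebraMap_apply, toFib_tmul, map_one, map_one, mul_one] at h⟩
  refine SkDesc.depth_eq (R := O) (O ⊗[k] (R ⧸ a)) fun P hP hle => eq_maximalIdeal ?_
  suffices maximalIdeal (O ⊗[k] (R ⧸ a)) ≤ P by
    rw [← (maximalIdeal.isMaximal _).eq_of_le hP.ne_top this]
    exact maximalIdeal.isMaximal _
  intro x hx
  have h1 : toFib ε' x ∈ maximalIdeal O := (mem_maximalIdeal _).2 fun hu => (mem_maximalIdeal _).1 hx (by
    have := IsNilpotent.isUnit_add_left_of_commute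
      (isNilpotent_map ε' (R ⧸ a) (AlgHom.id k _) (by simpa using sub_toFib_mem ε' x))
      (hu.map (Algebra.TensorProduct.includeLeftRingHom (R := k) (A := O) (B := R ⧸ a))) (Commute.all _ _)
    simpa using this)
  rw [← sub_add_cancel x (toFib ε' x ⊗ₜ[k] (1 : R ⧸ a))]
  refine P.add_mem ?_ (hle (Ideal.mem_map_of_mem _ h1))
  obtain ⟨n, hn⟩ := isNilpotent_map ε' (R ⧸ a) (AlgHom.id k _) (x := x - toFib ε' x ⊗ₜ[k] (1 : R ⧸ a))
    (by simpa using sub_toFib_mem ε' x)
  exact hP.mem_of_pow_mem n (hn ▸ P.zero_mem)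

end Tensor

end Groth.Agent.AVDualExist
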