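import Groth.Agent.AVDualExist.Alg

/-!
# The quotient by the ideal of the family is the artinian base
-/

noncomputable section

set_option autoImplicit false
set_option linter.style.haveILetI false
set_option linter.unusedSectionVars false
set_option maxHeartbeats 800000

universe u

open CategoryTheory IsLocalRing
open scoped TensorProduct

namespace Groth.Agent.AVDualExist

open Groth.Agent Groth.Agent.AVDualCx

variable {k O R S : Type u} [Field k] [CommRing O] [Algebra k O] [CommRing R] [Algebra k R]
  [CommRing S] [IsLocalRing S] [IsNoetherianRing S]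

/-- **A quotient meeting the closed fibre in a point is the base.** -/
theorem quotient_bijective [IsLocalRing R] [Module.Finite k R] (εR : R →ₐ[k] k) [IsLocalRing O] [IsNoetherianRing O]
    (Θ : (O ⊗[k] R) ≃+* S) {g : ℕ} (hO : LocCoh.depth O O = g) (P : CochainComplex (ModuleCat.{u} S) ℤ)
    (hP : Good P g) (e₀ : P.X 0 ≃ₗ[S] S) (ρ : R →+* S) (hρ : ∀ r, ρ r = Θ ((1 : O) ⊗ₜ[k] r))
    (hJm : dualIdeal P (e₀.symm 1) ≤ maximalIdeal S)
    (hsup : maximalIdeal S ≤ dualIdeal P (e₀.symm 1) ⊔ (maximalIdeal R).map ρ)
    (hres : ∀ x : S, ∃ r : R, x - ρ r ∈ maximalIdeal S) :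
    Function.Bijective ((Ideal.Quotient.mk (dualIdeal P (e₀.symm 1))).comp ρ) := by
  haveI : IsArtinianRing R := IsArtinianRing.of_finite k R
  let J := dualIdeal P (e₀.symm 1)
  let q : R →+* S ⧸ J := (Ideal.Quotient.mk J).comp ρ
  refine ⟨(RingHom.injective_iff_ker_eq_bot q).2 ?_, fun x => ?_⟩
  · -- injective
    let K := RingHom.ker q
    have hKm : K ≤ maximalIdeal R := fun r hr => (mem_maximalIdeal _).2 fun hu =>
      (mem_maximalIdeal _).1 (hJm (Ideal.Quotient.eq_zero_iff_mem.1 hr)) (hu.map ρ)
    obtain ⟨hloc, hdepth⟩ := depth_tensor (O := O) εR K hKm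
    haveI := hloc
    haveI : IsNoetherianRing (O ⊗[k] (R ⧸ K)) := IsNoetherianRing.of_finite O _
    let π : S →+* O ⊗[k] (R ⧸ K) :=
      (Algebra.TensorProduct.map (AlgHom.id k O) (Ideal.Quotient.mkₐ k K)).toRingHom.comp Θ.symm.toRingHom
    letI : Algebra S (O ⊗[k] (R ⧸ K)) := π.toAlgebra
    have hsurj : Function.Surjective (algebraMap S (O ⊗[k] (R ⧸ K))) :=
      (LinearMap.lTensor_surjective O (g := (Ideal.Quotient.mkₐ k K).toLinearMap) Ideal.Quotient.mk_surjective).comp
        Θ.symm.surjective
    have hker : RingHom.ker π = K.map ρ := by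
      have h := Algebra.TensorProduct.lTensor_ker (R := k) (A := O) (g := Ideal.Quotient.mkₐ k K)
        Ideal.Quotient.mk_surjective
      rw [show RingHom.ker (Ideal.Quotient.mkₐ k K) = K from Ideal.mk_ker] at h
      replace h : RingHom.ker (Algebra.TensorProduct.map (AlgHom.id k O) (Ideal.Quotient.mkₐ k K)) =
          K.map (Algebra.TensorProduct.includeRight : R →ₐ[k] O ⊗[k] R).toRingHom := h
      ext x
      rw [RingHom.mem_ker, show π x = Algebra.TensorProduct.map (AlgHom.id k O) (Ideal.Quotient.mkₐ k K) (Θ.symm x)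
        from rfl, ← RingHom.mem_ker, h]
      rw [show ρ = Θ.toRingHom.comp (Algebra.TensorProduct.includeRight : R →ₐ[k] O ⊗[k] R).toRingHom from
        RingHom.ext hρ, ← Ideal.map_map]
      constructor
      · intro hx
        have := Ideal.mem_map_of_mem Θ.toRingHom hx
        simpa using this
      · intro hx
        obtain ⟨y, hy, rfl⟩ := (Ideal.mem_map_iff_of_surjective Θ.toRingHom Θ.surjective).1 hx
        simpa using hy
    have hbJ : K.map ρ ≤ J := Ideal.map_le_iff_le_comap.2 fun r hr =>
      Ideal.mem_comap.2 (Ideal.Quotient.eq_zero_iff_mem.1 (show Ideal.Quotient.mk J (ρ r) = 0 from hr))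
    have hle := inf_le_mul (O ⊗[k] (R ⧸ K)) hsurj hP e₀ (hdepth.trans hO)
    rw [show RingHom.ker (algebraMap S (O ⊗[k] (R ⧸ K))) = RingHom.ker π from rfl, hker, inf_eq_left.2 hbJ] at hle
    have h0 : K.map ρ = ⊥ := by
      refine Submodule.eq_bot_of_le_smul_of_le_jacobson_bot (maximalIdeal S) _ (IsNoetherian.noetherian _) ?_
        (IsLocalRing.maximalIdeal_le_jacobson _)
      refine hle.trans ?_
      rw [smul_eq_mul, _root_.mul_comm (maximalIdeal S)]
      exact Ideal.mul_mono_right hJm
    refine eq_bot_iff.2 fun r hr => ?_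
    have h1 : ρ r = 0 := by
      rw [← Submodule.mem_bot S, ← h0]
      exact Ideal.mem_map_of_mem ρ hr
    rw [hρ, map_eq_zero_iff Θ Θ.injective] at h1
    exact Algebra.TensorProduct.includeRight_injective (A := O) (algebraMap k O).injective
      (show (Algebra.TensorProduct.includeRight : R →ₐ[k] O ⊗[k] R) r = _ from h1.trans (map_zero _).symm)
  · -- surjective
    letI : Algebra R (S ⧸ J) := q.toAlgebra
    let M := S ⧸ J
    let N : Submodule R M := LinearMap.range (Algebra.linearMap R M)
    have hstep : (⊤ : Submodule R M) ≤ N ⊔ maximalIdeal R • ⊤ := fun y _ => by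
      obtain ⟨z, rfl⟩ := Ideal.Quotient.mk_surjective y
      obtain ⟨r, hr⟩ := hres z
      obtain ⟨a, ha, b, hb, hab⟩ := Submodule.mem_sup.1 (hsup hr)
      have : Ideal.Quotient.mk J z = q r + Ideal.Quotient.mk J b := by
        show Ideal.Quotient.mk J z = Ideal.Quotient.mk J (ρ r) + Ideal.Quotient.mk J b
        rw [← map_add, Ideal.Quotient.eq]
        rw [show z - (ρ r + b) = a by linear_combination hab.symm]
        exact ha
      rw [this]
      refine Submodule.add_mem_sup ⟨r, rfl⟩ ?_
      clear this hab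
      refine Submodule.span_induction (p := fun b _ => Ideal.Quotient.mk J b ∈ maximalIdeal R • (⊤ : Submodule R M))
        ?_ (by rw [map_zero]; exact Submodule.zero_mem _)
        (fun u v _ _ hu hv => by rw [map_add]; exact Submodule.add_mem _ hu hv) ?_ hb
      · rintro _ ⟨c, hc, rfl⟩
        have h := Submodule.smul_mem_smul (I := maximalIdeal R) (N := (⊤ : Submodule R M)) hc
          (Submodule.mem_top (x := (1 : M)))
        rwa [Algebra.smul_def, _root_.mul_one] at h
      · intro s u _ hu
        rw [smul_eq_mul, map_mul]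
        refine Submodule.smul_induction_on (p := fun w => Ideal.Quotient.mk J s * w ∈ maximalIdeal R • (⊤ : Submodule R M))
          hu (fun c hc w _ => ?_) (fun u v hu hv => by rw [mul_add]; exact Submodule.add_mem _ hu hv)
        rw [mul_smul_comm]
        exact Submodule.smul_mem_smul hc trivial
    have hn : ∀ n : ℕ, (⊤ : Submodule R M) ≤ N ⊔ maximalIdeal R ^ n • ⊤ := by
      intro n
      induction n with
      | zero => exact le_trans (by rw [pow_zero, Ideal.one_eq_top, Submodule.top_smul]) le_sup_right
      | succ n ih =>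
        refine ih.trans (sup_le le_sup_left ((Submodule.smul_mono le_rfl hstep).trans ?_))
        rw [Submodule.smul_sup, pow_succ]
        exact sup_le_sup Submodule.smul_le_right (Submodule.mul_smul _ _ _).ge
    obtain ⟨n, hnil⟩ := IsArtinianRing.isNilpotent_jacobson_bot (R := R)
    rw [jacobson_eq_maximalIdeal ⊥ bot_ne_top] at hnil
    have h := hn n (Submodule.mem_top (x := x))
    rw [hnil, show ((0 : Ideal R) • (⊤ : Submodule R M)) = ⊥ from Submodule.bot_smul _, sup_bot_eq] at h
    exact h

end Groth.Agent.AVDualExist
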