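import Groth.Agent.AVDualExist.Stalk
import Groth.Agent.AVDualExist.Alg

/-!
# The stalk of a product with an artinian thickening of a point
-/

noncomputable section

set_option autoImplicit false
set_option linter.style.haveILetI false
set_option linter.unusedSectionVars false
set_option backward.isDefEq.respectTransparency false
set_option backward.isDefEq.respectTransparency.types false
set_option maxHeartbeats 800000

universe u

open CategoryTheory CategoryTheory.Limits MonoidalCategory CartesianMonoidalCategory MonObj AlgebraicGeometry TopologicalSpace IsLocalRing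
open scoped TensorProduct

namespace Groth.Agent.AVDualExist

open Groth.Agent Groth.Agent.AVDualCx

variable {k : Type u} [Field k]

local notation "pt₀" => 𝟙_ (Over (Spec (CommRingCat.of k)))

/-- The spectrum of a `k`-algebra. -/
abbrev TR (k : Type u) [Field k] (R : Type u) [CommRing R] [Algebra k R] : Over (Spec (CommRingCat.of k)) :=
  Over.mk (Spec.map (CommRingCat.ofHom (algebraMap k R)))

variable {R : Type u} [CommRing R] [Algebra k R]

/-- The point of an augmentation. -/
def pR (εR : R →ₐ[k] k) : pt₀ ⟶ TR k R :=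
  Over.homMk (Spec.map (CommRingCat.ofHom εR.toRingHom)) (by
    show Spec.map (CommRingCat.ofHom εR.toRingHom) ≫ Spec.map (CommRingCat.ofHom (algebraMap k R)) = 𝟙 _
    rw [← Spec.map_comp, ← CommRingCat.ofHom_comp, show εR.toRingHom.comp (algebraMap k R) = RingHom.id k from
      εR.comp_algebraMap, CommRingCat.ofHom_id, Spec.map_id])

theorem surjective_toAlg {C : Type u} [CommRing C] [Algebra k C] (E : C →ₐ[k] k) : Function.Surjective E :=
  fun x => ⟨algebraMap k C x, E.commutes x⟩

theorem spec_closedPoint {C : Type u} [CommRing C] [IsLocalRing C] {D : Type u} [CommRing D] [IsLocalRing D]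
    (f : C →+* D) [IsLocalHom f] : Spec.map (CommRingCat.ofHom f) (closedPoint D) = closedPoint C :=
  IsLocalRing.comap_closedPoint f

variable (Q : Over (Spec (CommRingCat.of k))) [GrpObj Q]

/-- The rational point over an augmentation. -/
def sigmaPt (εR : R →ₐ[k] k) : pt₀ ⟶ Q ⊗ TR k R := lift 1 (pR εR)

/-- **The stalk of the product is the tensor product.** -/
theorem exists_stalk_equiv [IsLocalRing R] [Module.Finite k R] (εR : R →ₐ[k] k) {s : (Q ⊗ TR k R).left}
    (hs : (sigmaPt Q εR).left (closedPoint k) = s) :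
    letI : Algebra k (Q.left.presheaf.stalk (e0 Q)) := (scalAt Q (e0 Q)).toAlgebra
    ∃ (Θ : (Q.left.presheaf.stalk (e0 Q) ⊗[k] R) ≃+* (Q ⊗ TR k R).left.presheaf.stalk s)
      (ρ : R →+* (Q ⊗ TR k R).left.presheaf.stalk s),
      (∀ r, ρ r = Θ ((1 : Q.left.presheaf.stalk (e0 Q)) ⊗ₜ[k] r)) ∧
        Spec.map (CommRingCat.ofHom ρ) = (Q ⊗ TR k R).left.fromSpecStalk s ≫ (snd Q (TR k R)).left := by
  let T := TR k R
  let W := Q ⊗ T
  let S := W.left.presheaf.stalk s
  let O := Q.left.presheaf.stalk (e0 Q)
  letI algO : Algebra k O := (scalAt Q (e0 Q)).toAlgebra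
  letI algS : Algebra k S := (scalAt W s).toAlgebra
  haveI : IsLocalRing (O ⊗[k] R) := isLocalRing_tensor εR
  -- the two maps into the stalk
  have h1 : (W.left.fromSpecStalk s ≫ (fst Q T).left) (closedPoint S) = e0 Q := by
    rw [Scheme.Hom.comp_apply, Scheme.fromSpecStalk_closedPoint, ← hs, ← Scheme.Hom.comp_apply, ← Over.comp_left]
    show (sigmaPt Q εR ≫ fst Q T).left (closedPoint k) = _
    rw [sigmaPt, lift_fst]
    rfl
  obtain ⟨jO, hjO⟩ := exists_stalk_hom (C := (S : Type u)) (W.left.fromSpecStalk s ≫ (fst Q T).left) h1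
  let iR : R →+* S := (Spec.preimage (R := CommRingCat.of R) (S := W.left.presheaf.stalk s)
    (W.left.fromSpecStalk s ≫ (snd Q T).left)).hom
  have hiR : Spec.map (CommRingCat.ofHom iR) = W.left.fromSpecStalk s ≫ (snd Q T).left := Spec.map_preimage _
  have hjk : jO.comp (scalAt Q (e0 Q)) = scalAt W s := comp_scalAt jO _ hjO (by
    rw [Category.assoc, Over.w, scalAt_spec])
  have hik : iR.comp (algebraMap k R) = scalAt W s := by
    refine congrArg CommRingCat.Hom.hom (Spec.map_injective
      (show Spec.map (CommRingCat.ofHom (iR.comp (algebraMap k R))) = Spec.map (CommRingCat.ofHom (scalAt W s)) from ?_))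
    rw [CommRingCat.ofHom_comp, Spec.map_comp, hiR, Category.assoc, scalAt_spec]
    show W.left.fromSpecStalk s ≫ (snd Q T).left ≫ T.hom = _
    rw [Over.w]
  let jA : O →ₐ[k] S := { jO with commutes' := fun c => RingHom.congr_fun hjk c }
  let iA : R →ₐ[k] S := { iR with commutes' := fun c => RingHom.congr_fun hik c }
  let Φ : O ⊗[k] R →ₐ[k] S := Algebra.TensorProduct.lift jA iA fun _ _ => Commute.all _ _
  -- the morphism from the tensor product
  let inl : O →+* O ⊗[k] R := Algebra.TensorProduct.includeLeftRingHom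
  let inr : R →+* O ⊗[k] R := (Algebra.TensorProduct.includeRight : R →ₐ[k] O ⊗[k] R).toRingHom
  let v : Spec (CommRingCat.of (O ⊗[k] R)) ⟶ W.left :=
    pullback.lift (Spec.map (CommRingCat.ofHom inl) ≫ Q.left.fromSpecStalk (e0 Q)) (Spec.map (CommRingCat.ofHom inr)) (by
      rw [Category.assoc, ← scalAt_spec]
      show _ = _ ≫ Spec.map (CommRingCat.ofHom (algebraMap k R))
      rw [← Spec.map_comp, ← Spec.map_comp, ← CommRingCat.ofHom_comp, ← CommRingCat.ofHom_comp]
      congr 2
      ext c
      exact ((Algebra.TensorProduct.includeLeft : O →ₐ[k] O ⊗[k] R).commutes c).trans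
        ((Algebra.TensorProduct.includeRight : R →ₐ[k] O ⊗[k] R).commutes c).symm)
  have hv1 : v ≫ (fst Q T).left = Spec.map (CommRingCat.ofHom inl) ≫ Q.left.fromSpecStalk (e0 Q) := pullback.lift_fst _ _ _
  have hv2 : v ≫ (snd Q T).left = Spec.map (CommRingCat.ofHom inr) := pullback.lift_snd _ _ _
  obtain ⟨evO, -, hevk, hevs⟩ := exists_ev (1 : pt₀ ⟶ Q) (s := e0 Q) rfl
  let εO : O →ₐ[k] k := { evO with commutes' := fun c => RingHom.congr_fun hevk c }
  let E : O ⊗[k] R →ₐ[k] k := εO.comp (toFib εR)
  haveI : IsLocalHom E.toRingHom := IsLocalHom.of_surjective _ (surjective_toAlg E)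
  have hvcp : v (closedPoint (O ⊗[k] R)) = s := by
    rw [← spec_closedPoint E.toRingHom, ← Scheme.Hom.comp_apply, ← hs]
    refine congrArg (fun m : Spec (CommRingCat.of k) ⟶ W.left => m (closedPoint k))
      (show Spec.map (CommRingCat.ofHom E.toRingHom) ≫ v = (sigmaPt Q εR).left from ?_)
    apply pullback.hom_ext
    · show (_ ≫ v) ≫ (fst Q T).left = (sigmaPt Q εR).left ≫ (fst Q T).left
      rw [Category.assoc, hv1, ← Category.assoc, ← Spec.map_comp, ← CommRingCat.ofHom_comp, ← Over.comp_left,
        sigmaPt, lift_fst, ← hevs]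
      congr 3
      ext o
      show εO (toFib εR (o ⊗ₜ[k] (1 : R))) = evO o
      rw [toFib_tmul, map_one, map_one, _root_.mul_one]
      rfl
    · show (_ ≫ v) ≫ (snd Q T).left = (sigmaPt Q εR).left ≫ (snd Q T).left
      rw [Category.assoc, hv2, ← Spec.map_comp, ← CommRingCat.ofHom_comp, ← Over.comp_left, sigmaPt, lift_snd]
      show _ = Spec.map (CommRingCat.ofHom εR.toRingHom)
      congr 2
      ext r
      show εO (toFib εR ((1 : O) ⊗ₜ[k] r)) = εR r
      rw [toFib_tmul, _root_.one_mul]
      exact εO.commutes _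
  obtain ⟨a, ha⟩ := exists_stalk_hom v hvcp
  have hΦl : Φ.toRingHom.comp inl = jO := RingHom.ext fun o => by
    show Φ (o ⊗ₜ[k] (1 : R)) = jO o
    simp [Φ, jA]
    rfl
  have hΦr : Φ.toRingHom.comp inr = iR := RingHom.ext fun r => by
    show Φ ((1 : O) ⊗ₜ[k] r) = iR r
    simp [Φ, iA]
  have hΦa : Φ.toRingHom.comp a = RingHom.id S := by
    refine stalk_hom_ext ?_
    rw [CommRingCat.ofHom_comp, Spec.map_comp, Category.assoc, ha, CommRingCat.ofHom_id, Spec.map_id, Category.id_comp]
    apply pullback.hom_ext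
    · show (_ ≫ v) ≫ (fst Q T).left = W.left.fromSpecStalk s ≫ (fst Q T).left
      rw [Category.assoc, hv1, ← Category.assoc, ← Spec.map_comp, ← CommRingCat.ofHom_comp, hΦl, hjO]
    · show (_ ≫ v) ≫ (snd Q T).left = W.left.fromSpecStalk s ≫ (snd Q T).left
      rw [Category.assoc, hv2, ← Spec.map_comp, ← CommRingCat.ofHom_comp, hΦr, hiR]
  have haj : a.comp jO = inl := by
    refine stalk_hom_ext ?_
    rw [CommRingCat.ofHom_comp, Spec.map_comp, Category.assoc, hjO, ← Category.assoc, ha, hv1]
  have hai : a.comp iR = inr := by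
    refine congrArg CommRingCat.Hom.hom (Spec.map_injective
      (show Spec.map (CommRingCat.ofHom (a.comp iR)) = Spec.map (CommRingCat.ofHom inr) from ?_))
    rw [CommRingCat.ofHom_comp, Spec.map_comp, hiR, ← Category.assoc, ha, hv2]
  have haΦ : ∀ x, a (Φ x) = x := fun x => by
    induction x using TensorProduct.induction_on with
    | zero => rw [map_zero, map_zero]
    | add p q hp hq => rw [map_add, map_add, hp, hq]
    | tmul o r =>
      rw [show Φ (o ⊗ₜ[k] r) = jO o * iR r from Algebra.TensorProduct.lift_tmul _ _ _ o r, map_mul,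
        show a (jO o) = inl o from RingHom.congr_fun haj o, show a (iR r) = inr r from RingHom.congr_fun hai r]
      show (o ⊗ₜ[k] (1 : R)) * ((1 : O) ⊗ₜ[k] r) = _
      rw [Algebra.TensorProduct.tmul_mul_tmul, _root_.mul_one, _root_.one_mul]
  refine ⟨RingEquiv.ofBijective Φ.toRingHom ⟨Function.LeftInverse.injective haΦ, fun x => ⟨a x, RingHom.congr_fun hΦa x⟩⟩,
    iR, fun r => (RingHom.congr_fun hΦr r).symm, hiR⟩

end Groth.Agent.AVDualExist
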