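import Groth.Agent.AVDualExist.Data
import Groth.Agent.AVDualExist.AlgBij
import Groth.Agent.AVDualExist.StalkProd

/-!
# The families over artinian bases come from the parameter space
-/

noncomputable section

set_option autoImplicit false
set_option linter.style.haveILetI false
set_option linter.unusedSectionVars false
set_option backward.isDefEq.respectTransparency false
set_option backward.isDefEq.respectTransparency.types false
set_option maxHeartbeats 2000000

universe u

open CategoryTheory CategoryTheory.Limits MonoidalCategory CartesianMonoidalCategory MonObj AlgebraicGeometry TopologicalSpace IsLocalRing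

namespace Groth.Agent.AVDualExist

open Groth.Agent Groth.Agent.H23 Groth.Agent.H23.TrivBasic Groth.Agent.AVDualCx Groth.Agent.AVPair
open scoped Groth.Agent.H23.PicMul

variable {k : Type u} [Field k] [IsAlgClosed k] {A : Over (Spec (CommRingCat.of k))} [GrpObj A] [IsProper A.hom]
  [GeometricallyIntegral A.hom] {Q : Over (Spec (CommRingCat.of k))} [GrpObj Q] [IsProper Q.hom]
  [GeometricallyIntegral Q.hom] {c : PicF.Cl (A ⊗ Q).left}

local notation "pt₀" => 𝟙_ (Over (Spec (CommRingCat.of k)))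

/-- The slices of the family are additive. -/
theorem IsPFam.slice_additive (hc : IsPFam A Q c) (b : pt₀ ⟶ Q) :
    CubeAb.IsAdditive (pl (lift (𝟙 A) (toUnit A ≫ b)) c) := by
  show pl (fst A A * snd A A) (pl (lift (𝟙 A) (toUnit A ≫ b)) c) =
    pl (fst A A) (pl (lift (𝟙 A) (toUnit A ≫ b)) c) * pl (snd A A) (pl (lift (𝟙 A) (toUnit A ≫ b)) c)
  have hcomp : ∀ f : A ⊗ A ⟶ A, f ≫ lift (𝟙 A) (toUnit A ≫ b) = lift f (toUnit (A ⊗ A) ≫ b) := fun f => by
    rw [comp_lift, Category.comp_id, ← Category.assoc, toUnit_unique (f ≫ toUnit A) (toUnit _)]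
  rw [pl_pl, pl_pl, pl_pl, hcomp, hcomp, hcomp, AVPair.add_left hc.inv hc.rig hc.slice]

variable {R : Type u} [CommRing R] [Algebra k R]

theorem pR_unique [IsLocalRing R] [Module.Finite k R] (εR : R →ₐ[k] k) (b : pt₀ ⟶ TR k R) : b = pR εR := by
  haveI : IsArtinianRing R := IsArtinianRing.of_finite k R
  let φ : R →+* k := (Spec.preimage (R := CommRingCat.of R) (S := CommRingCat.of k) b.left).hom
  have hφ : Spec.map (CommRingCat.ofHom φ) = b.left := Spec.map_preimage _
  have hk : φ.comp (algebraMap k R) = RingHom.id k := by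
    refine congrArg CommRingCat.Hom.hom (Spec.map_injective
      (show Spec.map (CommRingCat.ofHom (φ.comp (algebraMap k R))) = Spec.map (𝟙 (CommRingCat.of k)) from ?_))
    rw [CommRingCat.ofHom_comp, Spec.map_comp, hφ, Spec.map_id]
    exact Over.w b
  have he : φ = εR.toRingHom := RingHom.ext fun r => by
    have h : φ (r - algebraMap k R (εR r)) = 0 := by
      obtain ⟨n, hn⟩ := IsArtinianRing.isNilpotent_jacobson_bot (R := R)
      rw [jacobson_eq_maximalIdeal ⊥ bot_ne_top] at hn
      have h := Ideal.pow_mem_pow (sub_aug_mem εR r) n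
      rw [hn] at h
      have h' : φ (r - algebraMap k R (εR r)) ^ n = 0 := by
        rw [← map_pow, show (r - algebraMap k R (εR r)) ^ n = 0 from h, map_zero]
      exact pow_eq_zero_iff'.1 h' |>.1
    rw [map_sub, sub_eq_zero] at h
    exact h.trans (RingHom.congr_fun hk _)
  refine Over.OverMorphism.ext ?_
  rw [← hφ, he]
  rfl

/-- **A family over an artinian base with trivial closed fibre comes from a point of `Q`.** -/
theorem IsPFam.exists_point_artin (hc : IsPFam A Q c) (g : ℕ) (hg : topologicalKrullDim ↥A.left = g)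
    (hgQ : topologicalKrullDim ↥Q.left = g) [IsLocalRing R] [Module.Finite k R] (εR : R →ₐ[k] k)
    {e : PicF.Cl (A ⊗ TR k R).left} (he : PicF.IsInvertibleCl e) (h0 : pl (A ◁ pR εR) e = 1) :
    ∃ z : TR k R ⟶ Q, e = pl (A ◁ z) c := by
  haveI : LocallyOfFiniteType (Spec.map (CommRingCat.ofHom (algebraMap k R))) :=
    (HasRingHomProperty.Spec_iff (P := @LocallyOfFiniteType)).2
      (RingHom.finiteType_algebraMap.2 (inferInstance : Algebra.FiniteType k R))
  haveI : LocallyOfFiniteType (TR k R).hom := inferInstanceAs (LocallyOfFiniteType (Spec.map _))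
  let T := TR k R
  let W := Q ⊗ T
  haveI : LocallyOfFiniteType W.hom := by
    rw [← Over.w (snd Q T)]
    haveI : LocallyOfFiniteType (snd Q T).left := inferInstanceAs (LocallyOfFiniteType (pullback.snd Q.hom T.hom))
    infer_instance
  haveI : IsLocallyNoetherian W.left := LocallyOfFiniteType.isLocallyNoetherian W.hom
  haveI : JacobsonSpace W.left := LocallyOfFiniteType.jacobsonSpace W.hom
  haveI : IsLocallyNoetherian A.left := LocallyOfFiniteType.isLocallyNoetherian A.hom
  haveI : IsLocallyNoetherian Q.left := LocallyOfFiniteType.isLocallyNoetherian Q.hom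
  haveI : CompactSpace A.left := QuasiCompact.compactSpace_of_compactSpace A.hom
  haveI : AlgebraicGeometry.IsNoetherian A.left := ⟨⟩
  haveI : A.left.IsSeparated := ⟨by rw [← terminal.comp_from A.hom]; infer_instance⟩
  haveI : IsIntegral Q.left := GeometricallyIntegral.isIntegral_of_subsingleton Q.hom
  haveI : Smooth Q.hom := GrpSchLib.smooth_of_isReduced_of_isAlgClosed Q
  let O := Q.left.presheaf.stalk (e0 Q)
  haveI : IsRegularLocalRing O := GrpSchLib.isRegularLocalRing_stalk_of_smooth Q.hom (e0 Q)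
  have hO : LocCoh.depth O O = g := by
    have h := (S10834.depth_of_regular O).trans ((S0354.result k Q (e0 Q) (isClosed_rational (1 : pt₀ ⟶ Q))).trans hgQ)
    exact_mod_cast h
  -- the family
  obtain ⟨M, hMcl, hM⟩ : PicF.IsInvertibleCl
      (pl (A ◁ snd Q T) e * pl (A ◁ (fst Q T)⁻¹) c : PicF.Cl (A ⊗ W).left) :=
    PicMul.isInvertibleCl_mul (isInv_pl _ he) (isInv_pl _ hc.inv)
  have hat : ∀ {T' : Over (Spec (CommRingCat.of k))} (w : T' ⟶ W),
      pl (A ◁ w) (PicF.cl M) = pl (A ◁ (w ≫ snd Q T)) e * pl (A ◁ (w ≫ fst Q T)⁻¹) c := fun {T'} w => by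
    rw [hMcl, map_mul, pl_pl, pl_pl, ← MonoidalCategory.whiskerLeft_comp, ← MonoidalCategory.whiskerLeft_comp,
      GrpObj.comp_inv]
  let σ : pt₀ ⟶ W := sigmaPt Q εR
  let s : W.left := σ.left (closedPoint k)
  have hs : IsClosed ({s} : Set W.left) := isClosed_rational σ
  have hσ : pl (A ◁ σ) (PicF.cl M) = 1 := by
    rw [hat, show σ ≫ snd Q T = pR εR from lift_snd _ _, show σ ≫ fst Q T = (1 : pt₀ ⟶ Q) from lift_fst _ _,
      inv_one, h0, hc.one, _root_.mul_one]
  have hslice : ∀ b : pt₀ ⟶ W, pl (lift (𝟙 A) (toUnit A ≫ b)) (PicF.cl M) =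
      pl (lift (𝟙 A) (toUnit A ≫ (b ≫ fst Q T)⁻¹)) c := fun b => by
    rw [show lift (𝟙 A) (toUnit A ≫ b) = lift (𝟙 A) (toUnit A) ≫ (A ◁ b) from (lift_whiskerLeft _ _ _).symm,
      ← pl_pl, hat, pR_unique εR (b ≫ snd Q T), h0, _root_.one_mul, pl_pl, lift_whiskerLeft]
  let f : (A ⊗ W).left ⟶ W.left := (snd A W).left
  haveI : IsProper f := inferInstanceAs (IsProper (pullback.snd A.hom W.hom))
  haveI : Flat f := inferInstanceAs (Flat (pullback.snd A.hom W.hom))
  haveI : LocallyOfFinitePresentation f := inferInstanceAs (LocallyOfFinitePresentation (pullback.snd A.hom W.hom))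
  have hqM : Coh.IsQCoh M := QCoh.isQCoh_of_isFinLocFree (PullPush.isFinLocFree_of_isInvertible hM)
  haveI := hqM
  have hfp := SeesawGen.isFP_of_isInvertible hM
  have hfl := Seesaw.isFlatOver_of_isInvertible f hM
  have hclosed : ∀ y : W.left, y ≠ s → IsClosed ({y} : Set W.left) → ∀ p, Subsingleton (CohIII.fiberH f M y p) := by
    intro y hy hyc p
    obtain ⟨b, rfl⟩ := exists_rational hyc
    refine (AVTheta8.subsingleton_fiberH_iff f b.left W.hom (Over.w b) (isPullback_slice b) M p).2 ?_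
    have hcl : PicF.cl ((Scheme.Modules.pullback (lift (𝟙 A) (toUnit A ≫ b)).left).obj M) =
        pl (lift (𝟙 A) (toUnit A ≫ (b ≫ fst Q T)⁻¹)) c := hslice b
    refine AVTheta8.subsingleton_HH_of_additive (PicClLib.isInvertible_pullback _ hM) ?_ (fun ht => hy ?_) p
    · rw [hcl]
      exact hc.slice_additive _
    · have h1 : pl (lift (𝟙 A) (toUnit A)) (pl (A ◁ (b ≫ fst Q T)⁻¹) c) = 1 := by
        rw [pl_pl, lift_whiskerLeft, ← hcl]
        exact (CubeAb.cl_eq_one_iff _).2 ht
      have h2 : pl (A ◁ (b ≫ fst Q T)⁻¹) c = 1 := by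
        have h3 := congrArg (pl (fst A pt₀)) h1
        rwa [pl_pl (fst A pt₀) (lift (𝟙 A) (toUnit A)), map_one, show fst A pt₀ ≫ lift (𝟙 A) (toUnit A) = 𝟙 _ from
          CartesianMonoidalCategory.hom_ext _ _ (by simp) (toUnit_unique _ _), pl_id] at h3
      have hb : b = σ := CartesianMonoidalCategory.hom_ext _ _
        ((inv_eq_one.1 (hc.univ _ _ h2)).trans (lift_fst _ _).symm)
        ((pR_unique εR _).trans (lift_snd _ _).symm)
      rw [hb]
  let U : W.left.Opens := ⟨{s}ᶜ, hs.isOpen_compl⟩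
  have hvan : ∀ z ∈ (⊤ : W.left.Opens), z ≠ s → ∀ p, CohPullLib.VanAt f M p z := by
    intro z _ hzs p
    by_contra hn
    obtain ⟨w, hw, hwc⟩ := nonempty_inter_closedPoints
      (Z := (U : Set W.left) ∩ {y : W.left | CohPullLib.VanAt f M p y}ᶜ) ⟨z, hzs, hn⟩
      ((U.2.isLocallyClosed).inter (CohPullLib.isOpen_vanAt p).isClosed_compl.isLocallyClosed)
    exact hw.2 (CohPullLib.vanAt_of_subsingleton hqM hfp hfl p (hclosed w hw.1 (mem_closedPoints_iff.1 hwc) p))
  have hdim : ∀ p, g < p → CohIII.fiberRank f M p s = 0 := fun p hp => by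
    haveI : Subsingleton (CohIII.fiberH f M s p) :=
      (AVTheta8.subsingleton_fiberH_iff f σ.left W.hom (Over.w σ) (isPullback_slice σ) M p).2
        (Snapper.subsingleton_HH_of_dim_le hg.le (QCoh.isQCoh_pullback _ hqM) hp)
    exact Module.finrank_zero_of_subsingleton
  obtain ⟨P, hP, hrank, -, hJ⟩ := exists_stalk_package (f := f) hqM hfp hfl hs ⊤ trivial hvan hdim
  let S := W.left.presheaf.stalk s
  obtain ⟨ev, hkerev, hevk, hevs⟩ := exists_ev σ (s := s) rfl
  have h01 : Module.finrank S (P.X 0) = 1 := by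
    obtain ⟨iO⟩ : Nonempty ((Scheme.Modules.pullback (lift (𝟙 A) (toUnit A ≫ σ)).left).obj M ≅
        Coh.structureModule A.left) := (CubeAb.cl_eq_one_iff _).1 ((hslice σ).trans (by
      rw [show σ ≫ fst Q T = (1 : pt₀ ⟶ Q) from lift_fst _ _, inv_one, MonObj.comp_one, hc.slice]))
    refine ((hrank k ev hkerev A.left _ A.hom (by rw [hevs]; exact isPullback_slice σ) 0).trans ?_).trans (finrank_H0 A)
    letI : A.left.Over (Spec (CommRingCat.of k)) := ⟨A.hom⟩
    haveI : IsProper (A.left ↘ Spec (CommRingCat.of k)) := ‹IsProper A.hom›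
    exact HilbPoly.finrank_HH_iso k iO 0
  haveI := (hP.free 0).1
  haveI := (hP.free 0).2
  let e₀ : P.X 0 ≃ₗ[S] S := (Module.finBasisOfFinrankEq S _ h01).equivFun.trans (LinearEquiv.funUnique (Fin 1) S S)
  let J := dualIdeal P (e₀.symm 1)
  have hJm : J ≤ maximalIdeal S := le_dualIdeal_maximal hP _
  obtain ⟨N, hN⟩ := hP.exists_pow_le (e₀.symm 1) e₀.toLinearMap (e₀.apply_symm_apply 1)
  -- test points
  let TW : ∀ {C : Type u} [CommRing C] (_ : S →+* C), Over (Spec (CommRingCat.of k)) := fun {C} _ χ =>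
    Over.mk ((Spec.map (CommRingCat.ofHom χ) ≫ W.left.fromSpecStalk s) ≫ W.hom)
  let zpt : ∀ {C : Type u} [CommRing C] (χ : S →+* C), TW χ ⟶ W := fun {C} _ χ =>
    Over.homMk (Spec.map (CommRingCat.ofHom χ) ≫ W.left.fromSpecStalk s) rfl
  have hTW : ∀ {C : Type u} [CommRing C] (χ : S →+* C),
      (TW χ).hom = Spec.map (CommRingCat.ofHom (χ.comp (scalAt W s))) := fun {C} _ χ => by
    rw [CommRingCat.ofHom_comp, Spec.map_comp, scalAt_spec, ← Category.assoc]
    rfl
  -- a test point is constant iff the map is evaluation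
  have hconst : ∀ {C : Type u} [CommRing C] (χ : S →+* C), χ = (χ.comp (scalAt W s)).comp ev →
      zpt χ = toUnit (TW χ) ≫ σ := fun {C} _ χ h => by
    refine Over.OverMorphism.ext ?_
    rw [Over.comp_left, Over.toUnit_left, hTW, ← hevs, ← Category.assoc, ← Spec.map_comp, ← CommRingCat.ofHom_comp, ← h]
    rfl
  have key : ∀ I : Ideal S, I ≤ maximalIdeal S → (∃ n : ℕ, maximalIdeal S ^ n ≤ I) →
      (J ≤ I ↔ pl (A ◁ zpt (Ideal.Quotient.mk I)) (PicF.cl M) = 1) := by
    intro I hIm hI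
    have hne : I ≠ ⊤ := fun h => (maximalIdeal.isMaximal S).ne_top (top_le_iff.1 (h ▸ hIm))
    haveI : Nontrivial (S ⧸ I) := Ideal.Quotient.nontrivial_iff.2 hne
    haveI : IsLocalRing (S ⧸ I) := IsLocalRing.of_surjective' _ Ideal.Quotient.mk_surjective
    let χ := Ideal.Quotient.mk I
    haveI : IsLocalHom χ := IsLocalHom.of_surjective _ Ideal.Quotient.mk_surjective
    let π : (A ⊗ TW χ).left ⟶ Spec (CommRingCat.of (S ⧸ I)) := (snd A (TW χ)).left
    haveI : IsProper π := inferInstanceAs (IsProper (pullback.snd A.hom (TW χ).hom))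
    haveI : Flat π := inferInstanceAs (Flat (pullback.snd A.hom (TW χ).hom))
    haveI : GeometricallyIntegral π := inferInstanceAs (GeometricallyIntegral (pullback.snd A.hom (TW χ).hom))
    have hM' : PicF.IsInvertible ((Scheme.Modules.pullback (A ◁ zpt χ).left).obj M) :=
      PicClLib.isInvertible_pullback _ hM
    obtain ⟨h1, h2⟩ := hJ e₀ I hI _ (A ◁ zpt χ).left π (EqvUnr.isPullback_whiskerLeft A (zpt χ))
    refine ⟨fun hle => ?_, fun h => h2 (faithful_of_iso π (ThetaLib.gammaSnd_of_abelian A _)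
      ((CubeAb.cl_eq_one_iff _).1 h))⟩
    obtain ⟨z, hz⟩ := h1 hle
    refine (CubeAb.cl_eq_one_iff _).2 (triv_of_faithful π hM' ?_ z hz)
    -- the closed fibre
    let K := (closedPoint (S ⧸ I)).asIdeal.ResidueField
    let χ' : S →+* K := (algebraMap (S ⧸ I) K).comp χ
    have hχ' : χ' = (χ'.comp (scalAt W s)).comp ev := RingHom.ext fun r => by
      have hr : r - scalAt W s (ev r) ∈ maximalIdeal S := by
        rw [← hkerev, RingHom.mem_ker, map_sub, ← RingHom.comp_apply, hevk, RingHom.id_apply, sub_self]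
      have h0 : χ' (r - scalAt W s (ev r)) = 0 := by
        show algebraMap (S ⧸ I) K (χ _) = 0
        rw [Ideal.algebraMap_residueField_eq_zero]
        exact map_nonunit χ _ hr
      rwa [map_sub, sub_eq_zero] at h0
    let w : TW χ' ⟶ TW χ := Over.homMk (Spec.map (CommRingCat.ofHom (algebraMap (S ⧸ I) K))) (by
      rw [hTW, hTW, ← Spec.map_comp, ← CommRingCat.ofHom_comp, RingHom.comp_assoc])
    have hw : w ≫ zpt χ = toUnit (TW χ') ≫ σ := by
      rw [← hconst χ' hχ']
      refine Over.OverMorphism.ext ?_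
      show Spec.map _ ≫ Spec.map _ ≫ _ = Spec.map _ ≫ _
      rw [← Category.assoc, ← Spec.map_comp]
      rfl
    have sq := EqvUnr.isPullback_whiskerLeft A w
    let q := sq.isoPullback
    refine triv_of_isIso q.hom ((triv_comp_iff _ _).2 ?_)
    refine (triv_congr (show q.hom ≫ pullback.fst _ _ = (A ◁ w).left from sq.isoPullback_hom_fst)).2 ?_
    refine (triv_comp_iff _ _).2 ?_
    refine (triv_congr (show (A ◁ w).left ≫ (A ◁ zpt χ).left = (A ◁ (toUnit (TW χ') ≫ σ)).left by
        rw [← Over.comp_left, ← MonoidalCategory.whiskerLeft_comp, hw])).2 ?_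
    rw [← CubeAb.cl_eq_one_iff]
    show pl (A ◁ (toUnit (TW χ') ≫ σ)) (PicF.cl M) = 1
    rw [MonoidalCategory.whiskerLeft_comp, ← pl_pl, hσ, map_one]
  -- the base
  obtain ⟨Θ, ρ, hρ, hρs⟩ := exists_stalk_equiv Q εR (s := s) rfl
  have hρk : ρ.comp (algebraMap k R) = scalAt W s := by
    refine congrArg CommRingCat.Hom.hom (Spec.map_injective
      (show Spec.map (CommRingCat.ofHom (ρ.comp (algebraMap k R))) = Spec.map (CommRingCat.ofHom (scalAt W s)) from ?_))
    rw [CommRingCat.ofHom_comp, Spec.map_comp, hρs, Category.assoc, scalAt_spec]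
    show W.left.fromSpecStalk s ≫ (snd Q T).left ≫ T.hom = _
    rw [Over.w]
  have hsnd : ∀ {C : Type u} [CommRing C] (χ : S →+* C),
      (zpt χ ≫ snd Q T).left = Spec.map (CommRingCat.ofHom (χ.comp ρ)) := fun {C} _ χ => by
    rw [CommRingCat.ofHom_comp, Spec.map_comp, hρs, ← Category.assoc]
    rfl
  haveI : IsArtinianRing R := IsArtinianRing.of_finite k R
  have hρm : (maximalIdeal R).map ρ ≤ maximalIdeal S := Ideal.map_le_iff_le_comap.2 fun r hr => by
    obtain ⟨n, hn⟩ := IsArtinianRing.isNilpotent_jacobson_bot (R := R)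
    rw [jacobson_eq_maximalIdeal ⊥ bot_ne_top] at hn
    have h := Ideal.pow_mem_pow hr n
    rw [hn] at h
    refine (mem_maximalIdeal _).2 fun hu => not_isUnit_zero (M₀ := S) ?_
    have h' := hu.pow n
    rwa [← map_pow, show r ^ n = 0 from h, map_zero] at h'
  let I₀ := J ⊔ (maximalIdeal R).map ρ
  have hI₀ : I₀ ≤ maximalIdeal S := sup_le hJm hρm
  have hsup : maximalIdeal S ≤ I₀ := by
    let χ := Ideal.Quotient.mk I₀
    have h1 := (key I₀ hI₀ ⟨N, hN.trans le_sup_left⟩).1 le_sup_left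
    rw [hat] at h1
    have hu : zpt χ ≫ snd Q T = toUnit (TW χ) ≫ pR εR := by
      refine Over.OverMorphism.ext ?_
      rw [hsnd, Over.comp_left, Over.toUnit_left, hTW]
      show _ = _ ≫ Spec.map (CommRingCat.ofHom εR.toRingHom)
      rw [← Spec.map_comp, ← CommRingCat.ofHom_comp]
      congr 2
      refine RingHom.ext fun r => ?_
      show χ (ρ r) = χ (scalAt W s (εR r))
      rw [← RingHom.congr_fun hρk, RingHom.comp_apply, Ideal.Quotient.eq, ← map_sub]
      exact Ideal.mem_sup_right (Ideal.mem_map_of_mem ρ (sub_aug_mem εR r))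
    rw [hu, MonoidalCategory.whiskerLeft_comp, ← pl_pl, h0, map_one, _root_.one_mul] at h1
    have hz1 : zpt χ ≫ fst Q T = 1 := inv_eq_one.1 (hc.univ _ _ h1)
    have hz : zpt χ = toUnit (TW χ) ≫ σ := CartesianMonoidalCategory.hom_ext _ _
      (by rw [hz1, Category.assoc, show σ ≫ fst Q T = (1 : pt₀ ⟶ Q) from lift_fst _ _, MonObj.comp_one])
      (by rw [hu, Category.assoc, show σ ≫ snd Q T = pR εR from lift_snd _ _])
    have hz' : χ = (χ.comp (scalAt W s)).comp ev := stalk_hom_ext (by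
      have h := congrArg Over.Hom.left hz
      rw [Over.comp_left, Over.toUnit_left, hTW, ← hevs, ← Category.assoc, ← Spec.map_comp,
        ← CommRingCat.ofHom_comp] at h
      exact h)
    intro r hr
    rw [← Ideal.Quotient.eq_zero_iff_mem]
    rw [← hkerev, RingHom.mem_ker] at hr
    refine (RingHom.congr_fun hz' r).trans ?_
    rw [RingHom.comp_apply, hr, map_zero]
  have hres : ∀ x : S, ∃ r : R, x - ρ r ∈ maximalIdeal S := fun x => ⟨algebraMap k R (ev x), by
    rw [← RingHom.comp_apply ρ, hρk, ← hkerev, RingHom.mem_ker, map_sub, ← RingHom.comp_apply ev, hevk,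
      RingHom.id_apply, sub_self]⟩
  letI : Algebra k O := (scalAt Q (e0 Q)).toAlgebra
  have hbij := quotient_bijective εR Θ hO P hP e₀ ρ hρ hJm hsup hres
  let χ := Ideal.Quotient.mk J
  let φ : R ≃+* S ⧸ J := RingEquiv.ofBijective _ hbij
  let v : T ⟶ TW χ := Over.homMk (Spec.map (CommRingCat.ofHom φ.symm.toRingHom)) (by
    rw [hTW, ← Spec.map_comp, ← CommRingCat.ofHom_comp]
    show Spec.map _ = Spec.map _
    congr 2
    refine RingHom.ext fun x => φ.injective ?_
    show φ (φ.symm (χ (scalAt W s x))) = φ (algebraMap k R x)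
    rw [φ.apply_symm_apply, ← RingHom.congr_fun hρk x]
    rfl)
  have hv : v ≫ zpt χ ≫ snd Q T = 𝟙 T := by
    refine Over.OverMorphism.ext ?_
    rw [Over.comp_left, hsnd, Over.id_left]
    show Spec.map _ ≫ Spec.map _ = _
    rw [← Spec.map_comp, ← CommRingCat.ofHom_comp, show φ.symm.toRingHom.comp (χ.comp ρ) = RingHom.id R from
      RingHom.ext fun r => φ.symm_apply_apply r, CommRingCat.ofHom_id, Spec.map_id]
    rfl
  refine ⟨v ≫ zpt χ ≫ fst Q T, ?_⟩
  have h1 := congrArg (pl (A ◁ v)) ((key J hJm ⟨N, hN⟩).1 le_rfl)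
  rw [map_one, pl_pl, ← MonoidalCategory.whiskerLeft_comp, hat, Category.assoc, Category.assoc, hv,
    MonoidalCategory.whiskerLeft_id, pl_id] at h1
  calc e = e * (pl (A ◁ (v ≫ zpt χ ≫ fst Q T)) c * pl (A ◁ (v ≫ zpt χ ≫ fst Q T)⁻¹) c) := by
        rw [hc.inv_mul, _root_.mul_one]
    _ = pl (A ◁ (v ≫ zpt χ ≫ fst Q T)) c * (e * pl (A ◁ (v ≫ zpt χ ≫ fst Q T)⁻¹) c) := by ac_rfl
    _ = _ := by rw [h1, _root_.mul_one]

end Groth.Agent.AVDualExist
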