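import Groth.Agent.AVDualMake.Points
import Groth.Agent.AVFieldDual.FibreTools
import Groth.Agent.AVTheta8.AlgEq
import Groth.Agent.AVDualCx.AV
import Groth.Agent.AVCentre.Main
import Groth.Agent.Lib.AVPicZero
import Groth.Agent.Lib.AVProj
import Groth.Agent.S12002

/-!
# Families of classes parametrised by a candidate for the dual abelian variety
-/

noncomputable section

set_option autoImplicit false
set_option linter.style.haveILetI false
set_option linter.unusedSectionVars false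
set_option backward.isDefEq.respectTransparency false
set_option backward.isDefEq.respectTransparency.types false
set_option maxHeartbeats 1000000

universe u

open CategoryTheory CategoryTheory.Limits MonoidalCategory CartesianMonoidalCategory MonObj AlgebraicGeometry TopologicalSpace

namespace Groth.Agent.AVDualExist

open Groth.Agent Groth.Agent.H23 Groth.Agent.AVPair
open scoped Groth.Agent.H23.PicMul

variable {k : Type u} [Field k]

local notation "pt₀" => 𝟙_ (Over (Spec (CommRingCat.of k)))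

/-- A rigidified family of invariant classes on `A` parametrised by `Q`: injective on all points and
surjective on rational points. -/
structure IsPFam (A Q : Over (Spec (CommRingCat.of k))) [GrpObj A] [GrpObj Q] (c : PicF.Cl (A ⊗ Q).left) : Prop where
  inv : PicF.IsInvertibleCl c
  rig : pl (lift (1 : Q ⟶ A) (𝟙 Q)) c = 1
  slice : pl (lift (𝟙 A) (1 : A ⟶ Q)) c = 1
  univ : ∀ (T : Over (Spec (CommRingCat.of k))) (z : T ⟶ Q), pl (A ◁ z) c = 1 → z = 1
  surj : ∀ M : A.left.Modules, PicF.IsInvertible M →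
    (∀ b : pt₀ ⟶ A, CubeAb.F (PicF.cl M) (CubeAb.tr b) = PicF.cl M) →
    ∃ b : pt₀ ⟶ Q, pl (lift (𝟙 A) (toUnit A ≫ b)) c = PicF.cl M

variable [IsAlgClosed k] {A : Over (Spec (CommRingCat.of k))} [GrpObj A] [IsProper A.hom] [GeometricallyIntegral A.hom]
  {Q : Over (Spec (CommRingCat.of k))} [GrpObj Q] [IsProper Q.hom] [GeometricallyIntegral Q.hom] {c : PicF.Cl (A ⊗ Q).left}

theorem IsPFam.add (hc : IsPFam A Q c) {T : Over (Spec (CommRingCat.of k))} (z w : T ⟶ Q) :
    pl (A ◁ (z * w)) c = pl (A ◁ z) c * pl (A ◁ w) c := by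
  have e : ∀ v : T ⟶ Q, A ◁ v = lift (fst A T) (snd A T ≫ v) := fun v => by
    apply CartesianMonoidalCategory.hom_ext <;> simp
  rw [e, e, e, MonObj.comp_mul]
  exact AVPair.add_right hc.inv hc.rig hc.slice _ _ _

theorem IsPFam.one (hc : IsPFam A Q c) (T : Over (Spec (CommRingCat.of k))) : pl (A ◁ (1 : T ⟶ Q)) c = 1 := by
  rw [show A ◁ (1 : T ⟶ Q) = fst A T ≫ lift (𝟙 A) (1 : A ⟶ Q) from
    CartesianMonoidalCategory.hom_ext _ _ (by simp) (by simp [MonObj.comp_one]), ← pl_pl, hc.slice, map_one]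

theorem IsPFam.inv_mul (hc : IsPFam A Q c) {T : Over (Spec (CommRingCat.of k))} (z : T ⟶ Q) :
    pl (A ◁ z) c * pl (A ◁ z⁻¹) c = 1 := by
  rw [← hc.add, mul_inv_cancel, hc.one]

theorem IsPFam.pz (hc : IsPFam A Q c) : AVDual.PZ A Q c :=
  AVDual.pz_of_slice (1 : pt₀ ⟶ Q) hc.inv (by rw [MonObj.comp_one]; exact hc.slice)

theorem IsPFam.injective (hc : IsPFam A Q c) {T : Over (Spec (CommRingCat.of k))} (z w : T ⟶ Q)
    (h : pl (A ◁ z) c = pl (A ◁ w) c) : z = w := by
  refine inv_mul_eq_one.1 ((hc.univ T _ ?_))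
  rw [hc.add, ← h, _root_.mul_comm, hc.inv_mul]

/-- The quotient by `K(L)` of a non-degenerate module carries such a family. -/
theorem exists_pfam_quotient {L : A.left.Modules} (hL : PicF.IsInvertible L) {d : PicF.Cl A.left}
    (hd : PicF.cl L * d = 1)
    (hfin : Set.Finite {a : pt₀ ⟶ A | CubeAb.F (PicF.cl L) (CubeAb.tr a) = PicF.cl L})
    {K : Over (Spec (CommRingCat.of k))} {i : K ⟶ A} (hK : ThetaGrp.IsKL A L i) [IsFinite K.hom] :
    ∃ (Q : Over (Spec (CommRingCat.of k))) (_ : GrpObj Q) (q : A ⟶ Q) (c : PicF.Cl (A ⊗ Q).left),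
      IsProper Q.hom ∧ GeometricallyIntegral Q.hom ∧ IsMonHom q ∧ Surjective q.left ∧ Flat q.left ∧ IsFinite q.left ∧
        (∀ (T : Over (Spec (CommRingCat.of k))) (a b : T ⟶ A), a ≫ q = b ≫ q ↔ ∃ h : T ⟶ K, b = a * (h ≫ i)) ∧
        IsPFam A Q c ∧ pl (A ◁ q) c = AVField.mum (PicF.cl L) d := by
  haveI : IsCommMonObj A := isCommMonObj_of_isProper_of_geometricallyIntegral A
  haveI : Subsingleton ↥(Spec (CommRingCat.of k)) := inferInstanceAs (Subsingleton (PrimeSpectrum k))
  haveI : Nonempty ↥(Spec (CommRingCat.of k)) := inferInstanceAs (Nonempty (PrimeSpectrum k))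
  obtain ⟨Q, sQ, q, c, hQp, hQg, hqm, hqs, hqf, hker, hci, haxis, hc⟩ := AVDualMake.exists_quotient hL hd hK
  haveI := hQp; haveI := hQg; haveI := hqm; haveI := hqs; haveI := hqf
  letI := AVDualMake.klGrpObj hL hK
  haveI := AVDualMake.isMonHom_incl hL hK
  haveI := AVDualMake.mono_incl hK
  have hkk : AlgGrp.IsKernel i q := GrpQuotLib.isKernel_of_isCosetMap fun T a b => hker T a b
  haveI : IsFinite q.left := AVField.isFinite_of_kernel q i hkk
  have hq1 : (1 : A ⟶ A) ≫ q = 1 := MonObj.one_comp q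
  have h2 : pl (lift (𝟙 A) (1 : A ⟶ Q)) c = 1 := by
    rw [← hq1, show lift (𝟙 A) ((1 : A ⟶ A) ≫ q) = lift (𝟙 A) (1 : A ⟶ A) ≫ A ◁ q from (lift_whiskerLeft _ _ _).symm,
      ← pl_pl, hc]
    simp only [AVField.mum, map_mul, pl_pl]
    rw [show lift (𝟙 A) (1 : A ⟶ A) ≫ μ[A] = 𝟙 A from _root_.mul_one (𝟙 A), lift_fst, lift_snd, Hom.one_def,
      pl_const (AVField.isInvertibleCl_inv ⟨L, rfl, hL⟩ hd), _root_.mul_one, pl_id, pl_id, hd]
  refine ⟨Q, sQ, q, c, hQp, hQg, hqm, hqs, hqf, inferInstance, hker, ⟨hci, haxis, h2, fun T z hz => ?_,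
    fun M hM hinv => ?_⟩, hc⟩
  · let T' : Over (Spec (CommRingCat.of k)) := Over.mk (pullback.fst z.left q.left ≫ T.hom)
    let p : T' ⟶ T := Over.homMk (pullback.fst z.left q.left) rfl
    let a : T' ⟶ A := Over.homMk (pullback.snd z.left q.left) (by
      show pullback.snd _ _ ≫ A.hom = pullback.fst _ _ ≫ T.hom
      rw [← Over.w q, ← pullback.condition_assoc, Over.w z])
    have ha : a ≫ q = p ≫ z := Over.OverMorphism.ext pullback.condition.symm
    have hm : pl (A ◁ a) (AVField.mum (PicF.cl L) d) = 1 := by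
      rw [← hc, pl_pl, ← MonoidalCategory.whiskerLeft_comp, ha, MonoidalCategory.whiskerLeft_comp, ← pl_pl, hz,
        map_one]
    obtain ⟨y, hy⟩ := (hK.univ T' a).1 ((KLBasic.iff_eq_pull hL a).2 (by
      rw [KLBasic.Eq, ThetaGrp.transl_fst]
      show pl (fst A T' * (snd A T' ≫ a)) (PicF.cl L) =
        pl (fst A T') (PicF.cl L) * pl (snd A T') (pl a (PicF.cl L))
      simp only [AVField.mum, map_mul, pl_pl, whiskerLeft_fst, whiskerLeft_snd] at hm
      rw [show (A ◁ a) ≫ μ[A] = fst A T' * (snd A T' ≫ a) by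
        show _ = lift (fst A T') (snd A T' ≫ a) ≫ μ[A]
        congr 1] at hm
      have hu : ∀ g : A ⊗ T' ⟶ A, pl g (PicF.cl L) * pl g d = 1 := fun g => by rw [← map_mul, hd, map_one]
      rw [pl_pl]
      calc pl (fst A T' * (snd A T' ≫ a)) (PicF.cl L)
          = pl (fst A T' * (snd A T' ≫ a)) (PicF.cl L) * (pl (fst A T') (PicF.cl L) * pl (fst A T') d) *
            (pl (snd A T' ≫ a) (PicF.cl L) * pl (snd A T' ≫ a) d) := by
            rw [hu, hu, _root_.mul_one, _root_.mul_one]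
        _ = pl (fst A T') (PicF.cl L) * pl (snd A T' ≫ a) (PicF.cl L) *
            (pl (fst A T' * (snd A T' ≫ a)) (PicF.cl L) * pl (fst A T') d * pl (snd A T' ≫ a) d) := by
            ac_rfl
        _ = _ := by rw [hm, _root_.mul_one]))
    haveI : Surjective p.left := inferInstanceAs (Surjective (pullback.fst z.left q.left))
    haveI : Flat p.left := inferInstanceAs (Flat (pullback.fst z.left q.left))
    haveI : QuasiCompact p.left := inferInstanceAs (QuasiCompact (pullback.fst z.left q.left))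
    haveI : Epi p.left := Flat.epi_of_flat_of_surjective _
    have hpz : p ≫ z = p ≫ (1 : T ⟶ Q) := by
      rw [← ha, MonObj.comp_one, ← hy, Category.assoc, show i ≫ q = 1 from hkk.w.trans rfl, MonObj.comp_one]
    exact Over.OverMorphism.ext ((cancel_epi p.left).1 (congrArg CommaMorphism.left hpz))
  · obtain ⟨a, ha⟩ := AVTheta8.exists_translate hL hM hinv hfin
    refine ⟨a ≫ q, ?_⟩
    rw [show lift (𝟙 A) (toUnit A ≫ a ≫ q) = lift (𝟙 A) (toUnit A ≫ a) ≫ A ◁ q by
      rw [lift_whiskerLeft, Category.assoc], ← pl_pl, hc, AVDualMake.mum_slice hL hd]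
    have ha' : pl (CubeAb.tr a) (PicF.cl L) = PicF.cl M * PicF.cl L := ha
    rw [ha', _root_.mul_assoc, hd, _root_.mul_one]

variable (A) in
/-- Every abelian variety over an algebraically closed field has such a family. -/
theorem exists_pfam :
    ∃ (Q : Over (Spec (CommRingCat.of k))) (_ : GrpObj Q) (q : A ⟶ Q) (c : PicF.Cl (A ⊗ Q).left),
      IsProper Q.hom ∧ GeometricallyIntegral Q.hom ∧ IsMonHom q ∧ Surjective q.left ∧ Flat q.left ∧ IsFinite q.left ∧
        IsPFam A Q c := by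
  haveI : IsIntegral A.left := GeometricallyIntegral.isIntegral_of_subsingleton A.hom
  obtain ⟨L, hL⟩ := AVProj.exists_isAmple (X := A)
  obtain ⟨D, hD, e⟩ := PicInv.exists_inverse hL.1
  have hd : PicF.cl L * PicF.cl D = 1 := by rw [← PicMul.cl_tensor]; exact PicMul.cl_eq_iff.2 e
  have hfin : Set.Finite {a : pt₀ ⟶ A | CubeAb.F (PicF.cl L) (CubeAb.tr a) = PicF.cl L} :=
    (Groth.Agent.S12002.result k A L hL).subset fun a ha => (AVTheta8.F_tr_eq_iff a).1 ha
  obtain ⟨K, _, i, _, _, _, hK⟩ := AVDualCx.exists_subgroup hL.1 (hfin.subset fun a ha =>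
    (AVTheta8.delta_eq_one hL.1 a).1 ha)
  obtain ⟨Q, sQ, q, c, h1, h2, h3, h4, h5, h6, -, h7, -⟩ := exists_pfam_quotient hL.1 hd hfin hK
  exact ⟨Q, sQ, q, c, h1, h2, h3, h4, h5, h6, h7⟩

end Groth.Agent.AVDualExist
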