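import Groth.Agent.AVDualExist.StalkProd
import Groth.Agent.GeomRedPts.FgColim
import Groth.Agent.RGLib.Lim8GenP
import Groth.Agent.S4788
import Groth.Agent.S4792
import Groth.Agent.Lib.InvEnd
import Groth.Agent.Lib.CurveDualPrep
import Groth.Agent.H23.PicMul
import Groth.Agent.Lib.AVPair
import Groth.Agent.SeesawGen.Rep

/-!
# Invertible classes over affine bases descend to bases of finite type
-/

noncomputable section

set_option autoImplicit false
set_option linter.style.haveILetI false
set_option linter.unusedSectionVars false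
set_option backward.isDefEq.respectTransparency false
set_option backward.isDefEq.respectTransparency.types false
set_option maxHeartbeats 1000000

universe u

open CategoryTheory CategoryTheory.Limits MonoidalCategory CartesianMonoidalCategory AlgebraicGeometry Opposite

namespace Groth.Agent.AVDualExist

open Groth.Agent Groth.Agent.H23 Groth.Agent.AVPair Groth.Agent.GeomRedPts
open scoped Groth.Agent.H23.PicMul

variable {k : Type u} [Field k]

/-- **Invertible classes on `A × Spec B` come from a finitely generated subalgebra.** -/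
theorem exists_descend (A : Over (Spec (CommRingCat.of k))) [IsProper A.hom] {B : Type u} [CommRing B] [Algebra k B]
    {x : PicF.Cl (A ⊗ TR k B).left} (hx : PicF.IsInvertibleCl x) :
    ∃ (s : Finset B) (π : TR k B ⟶ TR k (gen k B s)) (x₀ : PicF.Cl (A ⊗ TR k (gen k B s)).left),
      PicF.IsInvertibleCl x₀ ∧ pl (A ◁ π) x₀ = x := by
  classical
  obtain ⟨M, rfl, hM⟩ := hx
  let D := RGLib.Lim8.bc A.hom (diag k B)
  let c := RGLib.Lim8.bcCone A.hom (diag k B) (cone k B)
  obtain ⟨hc⟩ := RGLib.Lim8.nonempty_isLimit_bcCone A.hom (diag k B) (cone k B) (isLimitCone k B)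
  have hD : ∀ i, IsAffine ((diag k B).obj i).left := fun i => inferInstanceAs (IsAffine (Spec _))
  haveI : ∀ (i j : (Finset B)ᵒᵖ) (φ : i ⟶ j), IsAffineHom (D.map φ) :=
    RGLib.Lim8.isAffineHom_bc A.hom (diag k B) hD
  haveI : ∀ i, CompactSpace ↥(D.obj i) := RGLib.Lim8.compactSpace_bc A.hom (diag k B) hD
  haveI : ∀ i, QuasiSeparatedSpace ↥(D.obj i) := fun i => by
    haveI := hD i
    show QuasiSeparatedSpace ↥(pullback A.hom ((diag k B).obj i).hom)
    haveI : (pullback A.hom ((diag k B).obj i).hom).IsSeparated := ⟨by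
      rw [← terminal.comp_from (pullback.snd A.hom ((diag k B).obj i).hom)]
      infer_instance⟩
    infer_instance
  let i₀ : (Finset B)ᵒᵖ := op ∅
  haveI : Coh.IsQCoh (show c.pt.Modules from M) := QCoh.isQCoh_of_isFinLocFree (PullPush.isFinLocFree_of_isInvertible hM)
  obtain ⟨i, φ, F, hF, hFfp, ⟨e⟩⟩ := S4788.result D c hc i₀ M (SeesawGen.isFP_of_isInvertible hM)
  haveI := hF
  have h1 : PicF.IsInvertible ((Scheme.Modules.pullback (c.π.app i)).obj F) := PicMul.isInvertible_of_iso e.symm hM
  obtain ⟨j, ψ, hj⟩ := (S4792.result D c hc i F hFfp 1).1 (InvEnd.isFinLocFreeOfRank_one h1)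
  let F' := (Scheme.Modules.pullback (D.map ψ)).obj F
  have hF' : PicF.IsInvertible F' := CurveDuality.isInvertible_of_rank_one hj
  refine ⟨j.unop, (cone k B).π.app j, PicF.cl F', ⟨F', rfl, hF'⟩, ?_⟩
  have hmap : (A ◁ (cone k B).π.app j).left = c.π.app j := by
    refine pullback.hom_ext ?_ ?_
    · show (A ◁ (cone k B).π.app j).left ≫ (fst A ((diag k B).obj j)).left = _
      rw [← Over.comp_left, whiskerLeft_fst]
      exact (RGLib.Lim8.bcMap_fst A.hom _).symm
    · show (A ◁ (cone k B).π.app j).left ≫ (snd A ((diag k B).obj j)).left = _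
      rw [← Over.comp_left, whiskerLeft_snd]
      exact (RGLib.Lim8.bcMap_snd A.hom _).symm
  show PicF.pullCl (A ◁ (cone k B).π.app j).left (PicF.cl F') = PicF.cl M
  rw [hmap]
  show PicF.pullCl (c.π.app j) (PicF.pullCl (D.map ψ) (PicF.cl F)) = _
  rw [PicClLib.pullCl_comp, c.w ψ]
  exact PicMul.cl_eq_iff.2 ⟨e⟩

end Groth.Agent.AVDualExist
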