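import Groth.Agent.AVDualExist.Main
import Groth.Agent.AVDualCx.Concentrated
import Groth.Prelude.Def_AgPol

/-!
# The dual of an abelian variety over an algebraically closed field exists
-/

noncomputable section

set_option autoImplicit false
set_option linter.style.haveILetI false
set_option linter.unusedSectionVars false
set_option backward.isDefEq.respectTransparency false
set_option backward.isDefEq.respectTransparency.types false
set_option maxHeartbeats 1000000

universe u

open CategoryTheory CategoryTheory.Limits MonoidalCategory CartesianMonoidalCategory MonObj AlgebraicGeometry TopologicalSpace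

namespace Groth.Agent.AVDualExist

open Groth.Agent Groth.Agent.H23

variable {k : Type u} [Field k]

/-- The dimension of the fibre of a scheme over a field. -/
theorem dim_fiber (X : Over (Spec (CommRingCat.of k))) (s : ↥(Spec (CommRingCat.of k))) :
    topologicalKrullDim ↥(X.hom.fiber s) = topologicalKrullDim ↥X.left := by
  haveI : Subsingleton ↥(Spec (CommRingCat.of k)) := inferInstanceAs (Subsingleton (PrimeSpectrum k))
  refine ((X.hom.fiberHomeo s).trans ?_).isHomeomorph.topologicalKrullDim_eq
  exact (Homeomorph.setCongr (Set.eq_univ_of_forall fun _ => Subsingleton.elim _ _)).trans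
    (Homeomorph.Set.univ _)

/-- An abelian variety over a field, in the bundled form. -/
theorem isAbSch_of_dim [IsAlgClosed k] (X : Over (Spec (CommRingCat.of k))) [GrpObj X] [IsProper X.hom]
    [GeometricallyIntegral X.hom] (g : ℕ) (hg : topologicalKrullDim ↥X.left = g) : AgPol.IsAbSch X g := by
  haveI : IsIntegral X.left := GeometricallyIntegral.isIntegral_of_subsingleton X.hom
  exact ⟨GrpSchLib.smooth_of_isReduced_of_isAlgClosed X, inferInstance,
    CubeAb.geometricallyConnected_of_integral X.hom, fun s => (dim_fiber X s).trans hg⟩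

/-- **The dual abelian variety exists.** -/
theorem exists_dual [IsAlgClosed k] (A : Over (Spec (CommRingCat.of k))) [GrpObj A] [IsProper A.hom]
    [GeometricallyIntegral A.hom] (g : ℕ) (hg : topologicalKrullDim ↥A.left = g) :
    ∃ (Q : Over (Spec (CommRingCat.of k))) (_ : GrpObj Q) (φ : AgPol.DualMap A Q) (q : A ⟶ Q),
      IsProper Q.hom ∧ GeometricallyIntegral Q.hom ∧ AgPol.IsAbSch Q g ∧ IsMonHom q ∧ IsFinite q.left ∧
        Surjective q.left ∧ Flat q.left ∧ AbDual.IsDualAV Scheme.fppfPrecoverage A Q φ := by
  obtain ⟨Q, _, q, c, hQp, hQg, hqm, hqs, hqf, hqfin, hc⟩ := exists_pfam A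
  haveI := hQp; haveI := hQg; haveI := hqs; haveI := hqfin
  haveI : IsLocallyNoetherian A.left := LocallyOfFiniteType.isLocallyNoetherian A.hom
  haveI : IsLocallyNoetherian Q.left := LocallyOfFiniteType.isLocallyNoetherian Q.hom
  have hgQ : topologicalKrullDim ↥Q.left = g :=
    (AVDualCx.dim_eq_of_finite_surjective q.left).symm.trans hg
  exact ⟨Q, inferInstance, phi c, q, hQp, hQg, isAbSch_of_dim Q g hgQ, hqm, hqfin, hqs, hqf,
    hc.isDualAV g hg hgQ⟩

end Groth.Agent.AVDualExist
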