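import Mathlib

/-!
# Quotients of a local ring with rational residue field by powers of the maximal ideal are finite
-/

noncomputable section

set_option autoImplicit false
set_option linter.style.haveILetI false

universe u

open IsLocalRing

namespace Groth.Agent.AVDualExist

/-- The quotient of a Noetherian local `k`-algebra with residue field `k` by a power of the maximal ideal is finite. -/
theorem finite_quotient_pow {k S : Type u} [Field k] [CommRing S] [Algebra k S] [IsLocalRing S] [IsNoetherianRing S]
    (ev : S →ₐ[k] k) (hev : RingHom.ker ev = maximalIdeal S) (n : ℕ) :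
    Module.Finite k (S ⧸ maximalIdeal S ^ n) := by
  classical
  have key : ∀ n : ℕ, ∃ G : Finset S, ∀ s : S, ∃ a ∈ Submodule.span k (G : Set S), s - a ∈ maximalIdeal S ^ n := by
    intro n
    induction n with
    | zero => exact ⟨∅, fun s => ⟨0, Submodule.zero_mem _, by simp⟩⟩
    | succ n ih =>
      obtain ⟨G, hG⟩ := ih
      obtain ⟨H, hH⟩ := IsNoetherian.noetherian (maximalIdeal S ^ n)
      refine ⟨G ∪ H, fun s => ?_⟩
      obtain ⟨a, ha, hs⟩ := hG s
      have h2 : ∀ x ∈ maximalIdeal S ^ n, ∃ b ∈ Submodule.span k (H : Set S), x - b ∈ maximalIdeal S ^ (n + 1) := by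
        intro x hx
        rw [← hH] at hx
        induction hx using Submodule.span_induction with
        | mem x hx => exact ⟨x, Submodule.subset_span hx, by simp⟩
        | zero => exact ⟨0, Submodule.zero_mem _, by simp⟩
        | add u v _ _ hu hv =>
          obtain ⟨b, hb, hb'⟩ := hu
          obtain ⟨b', hc, hc'⟩ := hv
          exact ⟨b + b', Submodule.add_mem _ hb hc, by rw [add_sub_add_comm]; exact Ideal.add_mem _ hb' hc'⟩
        | smul r u hu' hu =>
          obtain ⟨b, hb, hb'⟩ := hu
          refine ⟨ev r • b, Submodule.smul_mem _ _ hb, ?_⟩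
          have hu'' : u ∈ maximalIdeal S ^ n := by rw [← hH]; exact hu'
          have hr : r - algebraMap k S (ev r) ∈ maximalIdeal S := by
            rw [← hev, RingHom.mem_ker, map_sub, ev.commutes, Algebra.algebraMap_self, RingHom.id_apply, sub_self]
          have hprod : (r - algebraMap k S (ev r)) * u ∈ maximalIdeal S ^ (n + 1) := by
            rw [pow_succ']
            exact Ideal.mul_mem_mul hr hu''
          rw [smul_eq_mul, Algebra.smul_def,
            show r * u - algebraMap k S (ev r) * b =
              (r - algebraMap k S (ev r)) * u + algebraMap k S (ev r) * (u - b) by ring]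
          exact Ideal.add_mem _ hprod (Ideal.mul_mem_left _ _ hb')
      obtain ⟨b, hb, hb'⟩ := h2 _ hs
      refine ⟨a + b, Submodule.add_mem _ (Submodule.span_mono (by simp) ha) (Submodule.span_mono (by simp) hb), ?_⟩
      rwa [← sub_sub]
  obtain ⟨G, hG⟩ := key n
  refine ⟨⟨G.image (Ideal.Quotient.mk (maximalIdeal S ^ n)), ?_⟩⟩
  rw [eq_top_iff]
  intro x _
  obtain ⟨s, rfl⟩ := Ideal.Quotient.mk_surjective x
  obtain ⟨a, ha, hs⟩ := hG s
  rw [Ideal.Quotient.eq.2 hs, Finset.coe_image]
  have := Submodule.apply_mem_span_image_of_mem_span (Ideal.Quotient.mkₐ k (maximalIdeal S ^ n)).toLinearMap ha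
  exact this

end Groth.Agent.AVDualExist
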