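import Groth.Agent.AVDualExist.Data
import Groth.Agent.ThetaLib.KLExists

/-!
# Classes trivial locally on the base, and their loci
-/

noncomputable section

set_option autoImplicit false
set_option linter.style.haveILetI false
set_option linter.unusedSectionVars false
set_option backward.isDefEq.respectTransparency false
set_option backward.isDefEq.respectTransparency.types false
set_option maxHeartbeats 1000000

universe u

open CategoryTheory CategoryTheory.Limits MonoidalCategory CartesianMonoidalCategory MonObj AlgebraicGeometry TopologicalSpace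

namespace Groth.Agent.AVDualExist

open Groth.Agent Groth.Agent.H23 Groth.Agent.H23.TrivBasic Groth.Agent.AVPair
open scoped Groth.Agent.H23.PicMul

variable {k : Type u} [Field k]

/-- The class is trivial locally on the base. -/
def LT (X T : Over (Spec (CommRingCat.of k))) (d : PicF.Cl (X ⊗ T).left) : Prop :=
  ∀ t : T.left, ∃ U : T.left.Opens, t ∈ U ∧ pl (X ◁ AbDual.ovrHom T U.ι) d = 1

variable {X T : Over (Spec (CommRingCat.of k))} {d d' : PicF.Cl (X ⊗ T).left}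

/-- An inclusion of opens over the base. -/
def resOvr {U V : T.left.Opens} (h : U ≤ V) : AbDual.ovr T U.ι ⟶ AbDual.ovr T V.ι :=
  Over.homMk (T.left.homOfLE h) (by
    show T.left.homOfLE h ≫ V.ι ≫ T.hom = U.ι ≫ T.hom
    rw [Scheme.homOfLE_ι_assoc])

theorem resOvr_ovrHom {U V : T.left.Opens} (h : U ≤ V) : resOvr h ≫ AbDual.ovrHom T V.ι = AbDual.ovrHom T U.ι :=
  Over.OverMorphism.ext (T.left.homOfLE_ι h)

theorem pl_ovr_mono {U V : T.left.Opens} (h : U ≤ V) (hd : pl (X ◁ AbDual.ovrHom T V.ι) d = 1) :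
    pl (X ◁ AbDual.ovrHom T U.ι) d = 1 := by
  rw [← resOvr_ovrHom h, MonoidalCategory.whiskerLeft_comp, ← pl_pl, hd, map_one]

theorem LT.of_eq_one (h : d = 1) : LT X T d := fun _ => ⟨⊤, trivial, by rw [h, map_one]⟩

theorem LT.mul (h : LT X T d) (h' : LT X T d') : LT X T (d * d') := fun t => by
  obtain ⟨U, hU, e⟩ := h t
  obtain ⟨V, hV, e'⟩ := h' t
  exact ⟨U ⊓ V, ⟨hU, hV⟩, by rw [map_mul, pl_ovr_mono inf_le_left e, pl_ovr_mono inf_le_right e', _root_.mul_one]⟩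

theorem LT.pull (h : LT X T d) {T' : Over (Spec (CommRingCat.of k))} (g : T' ⟶ T) : LT X T' (pl (X ◁ g) d) :=
  fun t => by
  obtain ⟨U, hU, e⟩ := h (g.left t)
  refine ⟨g.left ⁻¹ᵁ U, hU, ?_⟩
  let g' : AbDual.ovr T' (g.left ⁻¹ᵁ U).ι ⟶ AbDual.ovr T U.ι := Over.homMk (g.left ∣_ U) (by
    show (g.left ∣_ U) ≫ U.ι ≫ T.hom = (g.left ⁻¹ᵁ U).ι ≫ T'.hom
    rw [morphismRestrict_ι_assoc, Over.w g])
  have hg : g' ≫ AbDual.ovrHom T U.ι = AbDual.ovrHom T' (g.left ⁻¹ᵁ U).ι ≫ g :=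
    Over.OverMorphism.ext (morphismRestrict_ι _ _)
  rw [pl_pl, ← MonoidalCategory.whiskerLeft_comp, ← hg, MonoidalCategory.whiskerLeft_comp, ← pl_pl, e, map_one]

/-- Local triviality along an open cover of the base. -/
theorem LT.of_cover (h : ∀ t : T.left, ∃ U : T.left.Opens, t ∈ U ∧
    LT X (AbDual.ovr T U.ι) (pl (X ◁ AbDual.ovrHom T U.ι) d)) : LT X T d := fun t => by
  obtain ⟨U, hU, e⟩ := h t
  obtain ⟨V, hV, e'⟩ := e ⟨t, hU⟩
  refine ⟨U.ι ''ᵁ V, ⟨⟨t, hU⟩, hV, rfl⟩, ?_⟩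
  let v : AbDual.ovr T (U.ι ''ᵁ V).ι ⟶ AbDual.ovr (AbDual.ovr T U.ι) V.ι := Over.homMk
    (IsOpenImmersion.lift (V.ι ≫ U.ι) (U.ι ''ᵁ V).ι (by simp [Set.range_comp])) (by
      show _ ≫ V.ι ≫ U.ι ≫ T.hom = (U.ι ''ᵁ V).ι ≫ T.hom
      rw [← Category.assoc V.ι, IsOpenImmersion.lift_fac_assoc])
  have hv : v ≫ AbDual.ovrHom (AbDual.ovr T U.ι) V.ι ≫ AbDual.ovrHom T U.ι = AbDual.ovrHom T (U.ι ''ᵁ V).ι :=
    Over.OverMorphism.ext (IsOpenImmersion.lift_fac _ _ _)
  rw [← hv, MonoidalCategory.whiskerLeft_comp, MonoidalCategory.whiskerLeft_comp, ← pl_pl, ← pl_pl, e', map_one]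

/-- Over a base with a point in no proper open, local triviality is triviality. -/
theorem LT.eq_one (h : LT X T d) (t : T.left) (ht : ∀ U : T.left.Opens, t ∈ U → U = ⊤) : d = 1 := by
  obtain ⟨U, hU, e⟩ := h t
  obtain rfl := ht U hU
  have h1 := congrArg (pl (X ◁ (Over.homMk T.left.topIso.inv (by
    show T.left.topIso.inv ≫ (⊤ : T.left.Opens).ι ≫ T.hom = T.hom
    rw [← Scheme.topIso_hom, Iso.inv_hom_id_assoc]) : T ⟶ AbDual.ovr T (⊤ : T.left.Opens).ι))) e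
  rw [pl_pl, map_one, ← MonoidalCategory.whiskerLeft_comp] at h1
  rwa [show (Over.homMk T.left.topIso.inv _ : T ⟶ AbDual.ovr T (⊤ : T.left.Opens).ι) ≫
      AbDual.ovrHom T (⊤ : T.left.Opens).ι = 𝟙 T from Over.OverMorphism.ext (T.left.topIso.inv_hom_id),
    MonoidalCategory.whiskerLeft_id, pl_id] at h1

/-- The locus of local triviality in a Noetherian base. -/
theorem exists_lt_locus [IsProper X.hom] [GeometricallyIntegral X.hom] [LocallyOfFiniteType X.hom]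
    (W : Over (Spec (CommRingCat.of k))) [LocallyOfFiniteType W.hom] {e : PicF.Cl (X ⊗ W).left}
    (he : PicF.IsInvertibleCl e) :
    ∃ (Z : Over (Spec (CommRingCat.of k))) (i : Z ⟶ W), IsClosedImmersion i.left ∧
      ∀ (T : Over (Spec (CommRingCat.of k))) (w : T ⟶ W), (∃ v : T ⟶ Z, v ≫ i = w) ↔ LT X T (pl (X ◁ w) e) := by
  obtain ⟨M, rfl, hM⟩ := he
  let f : (X ⊗ W).left ⟶ W.left := (snd X W).left
  haveI : IsProper f := inferInstanceAs (IsProper (pullback.snd X.hom W.hom))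
  haveI : Flat f := inferInstanceAs (Flat (pullback.snd X.hom W.hom))
  haveI : GeometricallyIntegral f := inferInstanceAs (GeometricallyIntegral (pullback.snd X.hom W.hom))
  haveI : IsLocallyNoetherian W.left := LocallyOfFiniteType.isLocallyNoetherian W.hom
  obtain ⟨Z, gi, hgi, hZ⟩ := SeesawSub.exists_seesawSubscheme f M hM
  refine ⟨Over.mk (gi ≫ W.hom), Over.homMk gi rfl, hgi, fun T w => ?_⟩
  have hV : ∀ V : T.left.Opens, Triv ((Scheme.Modules.pullback (pullback.fst f (V.ι ≫ w.left))).obj M) ↔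
      pl (X ◁ AbDual.ovrHom T V.ι) (pl (X ◁ w) (PicF.cl M)) = 1 := fun V => by
    let a : AbDual.ovr T V.ι ⟶ W := AbDual.ovrHom T V.ι ≫ w
    have sq := EqvUnr.isPullback_whiskerLeft X a
    let q := sq.isoPullback
    rw [pl_pl, ← MonoidalCategory.whiskerLeft_comp]
    refine Iff.trans ?_ (CubeAb.cl_eq_one_iff _).symm
    show _ ↔ Triv ((Scheme.Modules.pullback (X ◁ a).left).obj M)
    constructor
    · intro h
      exact (triv_congr (sq.isoPullback_hom_fst)).1 ((triv_comp_iff _ _).1 (h.pullback q.hom))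
    · intro h
      exact triv_of_isIso q.hom ((triv_comp_iff _ _).2 ((triv_congr (sq.isoPullback_hom_fst)).2 h))
  constructor
  · rintro ⟨v, hv⟩ t
    obtain ⟨V, hVt, h⟩ := (hZ T.left w.left).1 ⟨v.left, congrArg CommaMorphism.left hv⟩ t
    exact ⟨V, hVt, (hV V).1 h⟩
  · intro h
    obtain ⟨v, hv⟩ := (hZ T.left w.left).2 (fun t => by
      obtain ⟨V, hVt, hT⟩ := h t
      exact ⟨V, hVt, (hV V).2 hT⟩)
    refine ⟨Over.homMk v ?_, Over.OverMorphism.ext hv⟩
    show v ≫ gi ≫ W.hom = T.hom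
    rw [← Category.assoc, hv, Over.w w]

variable [IsAlgClosed k] {A : Over (Spec (CommRingCat.of k))} [GrpObj A] [IsProper A.hom] [GeometricallyIntegral A.hom]
  {Q : Over (Spec (CommRingCat.of k))} [GrpObj Q] [IsProper Q.hom] [GeometricallyIntegral Q.hom]
  {c : PicF.Cl (A ⊗ Q).left}

/-- `z` classifies the class `x`. -/
def Cls (c : PicF.Cl (A ⊗ Q).left) (x : PicF.Cl (A ⊗ T).left) (z : T ⟶ Q) : Prop :=
  LT A T (x * pl (A ◁ z⁻¹) c)

theorem Cls.pull {x : PicF.Cl (A ⊗ T).left} {z : T ⟶ Q} (h : Cls c x z) {T' : Over (Spec (CommRingCat.of k))}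
    (g : T' ⟶ T) : Cls c (pl (A ◁ g) x) (g ≫ z) := by
  have := LT.pull h g
  rwa [map_mul, pl_pl, ← MonoidalCategory.whiskerLeft_comp, GrpObj.comp_inv] at this

theorem IsPFam.cls_self (hc : IsPFam A Q c) (z : T ⟶ Q) : Cls c (pl (A ◁ z) c) z :=
  LT.of_eq_one (hc.inv_mul z)

/-- The classifying point is unique. -/
theorem IsPFam.cls_unique (hc : IsPFam A Q c) {x : PicF.Cl (A ⊗ T).left} {z z' : T ⟶ Q} (h : Cls c x z)
    (h' : Cls c x z') : z = z' := by
  apply Over.OverMorphism.ext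
  choose U hU e using h
  choose V hV e' using h'
  refine (T.left.openCoverOfIsOpenCover (fun t => U t ⊓ V t) ?_).hom_ext _ _ fun t => ?_
  · rw [IsOpenCover, eq_top_iff]
    exact fun x _ => Opens.mem_iSup.2 ⟨x, hU x, hV x⟩
  let i := AbDual.ovrHom T (U t ⊓ V t).ι
  have e1 : pl (A ◁ i) x * pl (A ◁ (i ≫ z⁻¹)) c = 1 := by
    have h1 := pl_ovr_mono (inf_le_left : U t ⊓ V t ≤ U t) (e t)
    rwa [map_mul, pl_pl (A ◁ i), ← MonoidalCategory.whiskerLeft_comp] at h1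
  have e2 : pl (A ◁ i) x * pl (A ◁ (i ≫ z'⁻¹)) c = 1 := by
    have h2 := pl_ovr_mono (inf_le_right : U t ⊓ V t ≤ V t) (e' t)
    rwa [map_mul, pl_pl (A ◁ i), ← MonoidalCategory.whiskerLeft_comp] at h2
  have hi : pl (A ◁ (i ≫ z⁻¹)) c = pl (A ◁ (i ≫ z'⁻¹)) c := left_inv_eq_right_inv
    (a := pl (A ◁ i) x) (by rw [_root_.mul_comm]; exact e1) e2
  have h2 := hc.injective _ _ hi
  rw [GrpObj.comp_inv, GrpObj.comp_inv, inv_inj] at h2
  exact congrArg CommaMorphism.left h2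

theorem IsPFam.cls_mul (hc : IsPFam A Q c) {x x' : PicF.Cl (A ⊗ T).left} {z z' : T ⟶ Q} (h : Cls c x z)
    (h' : Cls c x' z') : Cls c (x * x') (z * z') := by
  have := LT.mul h h'
  have e : (z * z')⁻¹ = z⁻¹ * z'⁻¹ := by
    refine inv_eq_of_mul_eq_one_right (hc.injective _ _ ?_)
    simp only [hc.add, hc.one]
    calc _ = (pl (A ◁ z) c * pl (A ◁ z⁻¹) c) * (pl (A ◁ z') c * pl (A ◁ z'⁻¹) c) := by ac_rfl
      _ = 1 := by rw [hc.inv_mul, hc.inv_mul, _root_.mul_one]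
  rw [Cls, e, hc.add]
  rwa [show x * x' * (pl (A ◁ z⁻¹) c * pl (A ◁ z'⁻¹) c) = (x * pl (A ◁ z⁻¹) c) * (x' * pl (A ◁ z'⁻¹) c) by ac_rfl]

/-- Classifying points exist as soon as they do locally on the base. -/
theorem IsPFam.cls_glue (hc : IsPFam A Q c) {x : PicF.Cl (A ⊗ T).left}
    (h : ∀ t : T.left, ∃ (U : T.left.Opens) (z : AbDual.ovr T U.ι ⟶ Q), t ∈ U ∧
      Cls c (pl (A ◁ AbDual.ovrHom T U.ι) x) z) : ∃ z : T ⟶ Q, Cls c x z := by
  choose U z hU hz using h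
  let 𝒰 := T.left.openCoverOfIsOpenCover U (by
    rw [IsOpenCover, eq_top_iff]
    exact fun x _ => Opens.mem_iSup.2 ⟨x, hU x⟩)
  have hglue : ∀ i j, pullback.fst (𝒰.f i) (𝒰.f j) ≫ (z i).left = pullback.snd (𝒰.f i) (𝒰.f j) ≫ (z j).left := fun i j => by
    let P : Over (Spec (CommRingCat.of k)) := Over.mk (pullback.fst (U i).ι (U j).ι ≫ (U i).ι ≫ T.hom)
    let a : P ⟶ AbDual.ovr T (U i).ι := Over.homMk (pullback.fst _ _) rfl
    let b : P ⟶ AbDual.ovr T (U j).ι := Over.homMk (pullback.snd _ _) (by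
      show pullback.snd _ _ ≫ (U j).ι ≫ T.hom = pullback.fst _ _ ≫ (U i).ι ≫ T.hom
      rw [pullback.condition_assoc])
    have hab : a ≫ AbDual.ovrHom T (U i).ι = b ≫ AbDual.ovrHom T (U j).ι := Over.OverMorphism.ext pullback.condition
    have h1 := (hz i).pull a
    have h2 := (hz j).pull b
    rw [pl_pl, ← MonoidalCategory.whiskerLeft_comp] at h1 h2
    rw [← hab] at h2
    exact congrArg CommaMorphism.left (hc.cls_unique h1 h2)
  let g := 𝒰.glueMorphisms (fun i => (z i).left) hglue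
  have hg : ∀ i, (U i).ι ≫ g = (z i).left := fun i => 𝒰.ι_glueMorphisms _ _ i
  let zz : T ⟶ Q := Over.homMk g (𝒰.hom_ext _ _ fun i => by
    show (U i).ι ≫ g ≫ Q.hom = (U i).ι ≫ T.hom
    rw [← Category.assoc, hg, Over.w (z i)]
    rfl)
  refine ⟨zz, LT.of_cover fun t => ⟨U t, hU t, ?_⟩⟩
  rw [map_mul, pl_pl (A ◁ AbDual.ovrHom T (U t).ι), ← MonoidalCategory.whiskerLeft_comp, GrpObj.comp_inv,
    show AbDual.ovrHom T (U t).ι ≫ zz = z t from Over.OverMorphism.ext (hg t)]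
  exact hz t

end Groth.Agent.AVDualExist
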