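import Groth.Agent.AVDualExist.Stalk
import Groth.Agent.FlatLocus.Basic
import Mathlib.AlgebraicGeometry.Morphisms.FlatMono

/-!
# Closed subschemes containing all infinitesimal neighbourhoods of their closed points
-/

noncomputable section

set_option autoImplicit false
set_option linter.style.haveILetI false
set_option linter.unusedSectionVars false
set_option backward.isDefEq.respectTransparency false
set_option backward.isDefEq.respectTransparency.types false
set_option maxHeartbeats 800000

universe u

open CategoryTheory CategoryTheory.Limits AlgebraicGeometry TopologicalSpace IsLocalRing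

namespace Groth.Agent.AVDualExist

/-- A closed immersion containing the infinitesimal neighbourhoods of its closed points is open. -/
theorem isOpenImmersion_of_thickenings {Z X : Scheme.{u}} (j : Z ⟶ X) [IsClosedImmersion j] [IsLocallyNoetherian X]
    [JacobsonSpace X]
    (h : ∀ y : Z, IsClosed ({y} : Set Z) → ∀ n : ℕ, ∃ v : Spec (CommRingCat.of
        (X.presheaf.stalk (j y) ⧸ maximalIdeal (X.presheaf.stalk (j y)) ^ (n + 1))) ⟶ Z,
      v ≫ j = Spec.map (CommRingCat.ofHom (Ideal.Quotient.mk _)) ≫ X.fromSpecStalk (j y)) :
    IsOpenImmersion j := by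
  haveI : IsLocallyNoetherian Z := LocallyOfFiniteType.isLocallyNoetherian j
  haveI : JacobsonSpace Z := LocallyOfFiniteType.jacobsonSpace j
  haveI : LocallyOfFinitePresentation j := inferInstance
  have hclosed : ∀ y : Z, IsClosed ({y} : Set Z) → (j.stalkMap y).hom.Flat := by
    intro y hy
    let S := X.presheaf.stalk (j y)
    let φ : S →+* Z.presheaf.stalk y := (j.stalkMap y).hom
    have hinj : Function.Injective φ := by
      rw [RingHom.injective_iff_ker_eq_bot, eq_bot_iff,
        ← Ideal.iInf_pow_eq_bot_of_isLocalRing (I := maximalIdeal S) (maximalIdeal.isMaximal S).ne_top]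
      refine le_iInf fun n => ?_
      refine le_trans ?_ (Ideal.pow_le_pow_right n.le_succ)
      let I := maximalIdeal S ^ (n + 1)
      have hne : I ≠ ⊤ := fun he => (maximalIdeal.isMaximal S).ne_top
        (top_le_iff.1 (he ▸ Ideal.pow_le_self n.succ_ne_zero))
      haveI : Nontrivial (S ⧸ I) := Ideal.Quotient.nontrivial_iff.2 hne
      haveI : IsLocalRing (S ⧸ I) := IsLocalRing.of_surjective' _ Ideal.Quotient.mk_surjective
      let χ : S →+* S ⧸ I := Ideal.Quotient.mk I
      haveI : IsLocalHom χ := IsLocalHom.of_surjective _ Ideal.Quotient.mk_surjective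
      obtain ⟨v, hv⟩ := h y hy n
      have hvy : v (closedPoint (S ⧸ I)) = y := by
        refine j.isClosedEmbedding.injective ?_
        rw [← Scheme.Hom.comp_apply, hv, Scheme.Hom.comp_apply]
        refine (congrArg (X.fromSpecStalk (j y)) (show Spec.map (CommRingCat.ofHom χ) (closedPoint (S ⧸ I)) =
          closedPoint S from IsLocalRing.comap_closedPoint χ)).trans ?_
        exact Scheme.fromSpecStalk_closedPoint
      obtain ⟨a, ha⟩ := exists_stalk_hom v hvy
      have hχ : χ = a.comp φ := by
        refine stalk_hom_ext ?_
        refine hv.symm.trans ?_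
        rw [← ha, CommRingCat.ofHom_comp, Spec.map_comp, Category.assoc, Category.assoc]
        congr 1
        exact (Scheme.SpecMap_stalkMap_fromSpecStalk j).symm
      intro r hr
      show r ∈ I
      rw [← Ideal.Quotient.eq_zero_iff_mem]
      show χ r = 0
      rw [hχ, RingHom.comp_apply, show φ r = 0 from hr, map_zero]
    exact RingHom.Flat.of_bijective ⟨hinj, j.stalkMap_surjective y⟩
  haveI : Flat j := by
    rw [Flat.iff_flat_stalkMap]
    intro x
    by_contra hx
    obtain ⟨y, hy, hyc⟩ := nonempty_inter_closedPoints (Z := {x : Z | (j.stalkMap x).hom.Flat}ᶜ) ⟨x, hx⟩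
      (FlatLocus.isOpen_flat_locus j).isClosed_compl.isLocallyClosed
    exact hy (hclosed y (mem_closedPoints_iff.1 hyc))
  exact IsOpenImmersion.of_flat_of_mono j

end Groth.Agent.AVDualExist
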