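import Groth.Agent.AVDualExist.LT
import Groth.Agent.AVDualExist.Artin
import Groth.Agent.AVDualExist.Open
import Groth.Agent.AVDualExist.FinQuot
import Groth.Agent.Lib.PicZeroPrim
import Groth.Agent.H23.MaxAbelian

/-!
# Classifying points over bases of finite type
-/

noncomputable section

set_option autoImplicit false
set_option linter.style.haveILetI false
set_option linter.unusedSectionVars false
set_option backward.isDefEq.respectTransparency false
set_option backward.isDefEq.respectTransparency.types false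
set_option maxHeartbeats 2000000

universe u

open CategoryTheory CategoryTheory.Limits MonoidalCategory CartesianMonoidalCategory MonObj AlgebraicGeometry TopologicalSpace IsLocalRing

namespace Groth.Agent.AVDualExist

open Groth.Agent Groth.Agent.H23 Groth.Agent.H23.TrivBasic Groth.Agent.AVDualCx Groth.Agent.AVPair
open scoped Groth.Agent.H23.PicMul

variable {k : Type u} [Field k] [IsAlgClosed k] {A : Over (Spec (CommRingCat.of k))} [GrpObj A] [IsProper A.hom]
  [GeometricallyIntegral A.hom] {Q : Over (Spec (CommRingCat.of k))} [GrpObj Q] [IsProper Q.hom]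
  [GeometricallyIntegral Q.hom] {c : PicF.Cl (A ⊗ Q).left}

local notation "pt₀" => 𝟙_ (Over (Spec (CommRingCat.of k)))

theorem pt₀_eq_top (U : (pt₀).left.Opens) (h : closedPoint k ∈ U) : U = ⊤ :=
  (IsLocalRing.closedPoint_mem_iff (R := k) U).1 h

/-- **Classifying points over a base of finite type**: they exist on a clopen containing every point over which the
class lies in `Pic⁰`. -/
theorem IsPFam.exists_point_finiteType (hc : IsPFam A Q c) (g : ℕ) (hg : topologicalKrullDim ↥A.left = g)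
    (hgQ : topologicalKrullDim ↥Q.left = g) (T₀ : Over (Spec (CommRingCat.of k))) [LocallyOfFiniteType T₀.hom]
    {x : PicF.Cl (A ⊗ T₀).left} (hx : PicF.IsInvertibleCl x) :
    ∃ V : T₀.left.Opens, (∃ z : AbDual.ovr T₀ V.ι ⟶ Q, Cls c (pl (A ◁ AbDual.ovrHom T₀ V.ι) x) z) ∧
      ∀ (Ω : Type u) [Field Ω] [IsAlgClosed Ω] (p : Spec (CommRingCat.of Ω) ⟶ T₀.left),
        AVDual.PZ A (AbDual.ovr T₀ p) (pl (A ◁ AbDual.ovrHom T₀ p) x) → p (closedPoint Ω) ∈ V := by
  haveI : IsIntegral A.left := GeometricallyIntegral.isIntegral_of_subsingleton A.hom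
  haveI : Smooth A.hom := GrpSchLib.smooth_of_isReduced_of_isAlgClosed A
  haveI : GeometricallyConnected A.hom := CubeAb.geometricallyConnected_of_integral A.hom
  haveI : IsCommMonObj A := isCommMonObj_of_isProper_of_geometricallyIntegral A
  haveI : IsLocallyNoetherian T₀.left := LocallyOfFiniteType.isLocallyNoetherian T₀.hom
  haveI : JacobsonSpace T₀.left := LocallyOfFiniteType.jacobsonSpace T₀.hom
  let W := T₀ ⊗ Q
  haveI : IsProper (fst T₀ Q).left := inferInstanceAs (IsProper (pullback.fst T₀.hom Q.hom))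
  haveI : LocallyOfFiniteType W.hom := by rw [← Over.w (fst T₀ Q)]; infer_instance
  obtain ⟨Z, i, hi, hZ⟩ := exists_lt_locus (X := A) W
    (e := pl (A ◁ fst T₀ Q) x * pl (A ◁ (snd T₀ Q)⁻¹) c)
    (PicMul.isInvertibleCl_mul (isInv_pl _ hx) (isInv_pl _ hc.inv))
  haveI := hi
  haveI : Mono i := Over.mono_of_mono_left i
  have hZ' : ∀ (T : Over (Spec (CommRingCat.of k))) (a : T ⟶ T₀) (z : T ⟶ Q),
      (∃ v : T ⟶ Z, v ≫ i = lift a z) ↔ Cls c (pl (A ◁ a) x) z := fun T a z => by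
    rw [hZ, map_mul, pl_pl, pl_pl, ← MonoidalCategory.whiskerLeft_comp, ← MonoidalCategory.whiskerLeft_comp, lift_fst,
      GrpObj.comp_inv, lift_snd]
    rfl
  have hcls : ∀ {T : Over (Spec (CommRingCat.of k))} (v : T ⟶ Z),
      Cls c (pl (A ◁ (v ≫ i ≫ fst T₀ Q)) x) (v ≫ i ≫ snd T₀ Q) := fun {T} v =>
    (hZ' T _ _).1 ⟨v, CartesianMonoidalCategory.hom_ext _ _ (by simp) (by simp)⟩
  let j : Z ⟶ T₀ := i ≫ fst T₀ Q
  haveI : Mono j := ⟨fun {T} v w h => by
    have h' : v ≫ i ≫ fst T₀ Q = w ≫ i ≫ fst T₀ Q := h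
    have h2 := hcls w
    rw [← h'] at h2
    rw [← cancel_mono i]
    exact CartesianMonoidalCategory.hom_ext _ _ (by rw [Category.assoc, Category.assoc]; exact h')
      (by rw [Category.assoc, Category.assoc]; exact hc.cls_unique (hcls v) h2)⟩
  haveI : IsProper j.left := inferInstanceAs (IsProper (i.left ≫ (fst T₀ Q).left))
  haveI : IsClosedImmersion j.left :=
    (IsClosedImmersion.iff_isProper_and_mono _).2 ⟨inferInstance, inferInstanceAs (Mono ((Over.forget _).map j))⟩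
  haveI : LocallyOfFiniteType Z.hom := by rw [← Over.w j]; infer_instance
  haveI : IsOpenImmersion j.left := by
    refine isOpenImmersion_of_thickenings j.left fun y hy n => ?_
    obtain ⟨b, hb⟩ := exists_rational hy
    let τ : pt₀ ⟶ T₀ := b ≫ j
    let z0 : pt₀ ⟶ Q := b ≫ i ≫ snd T₀ Q
    have h0 : pl (A ◁ τ) x * pl (A ◁ z0⁻¹) c = 1 :=
      LT.eq_one (hcls b) (closedPoint k) pt₀_eq_top
    let S := T₀.left.presheaf.stalk (j.left y)
    letI : Algebra k S := (scalAt T₀ (j.left y)).toAlgebra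
    obtain ⟨ev, hker, hevk, hevs⟩ := exists_ev τ (s := j.left y) (by
      show (b.left ≫ j.left) (closedPoint k) = _
      rw [Scheme.Hom.comp_apply, hb])
    let evA : S →ₐ[k] k := { ev with commutes' := fun r => RingHom.congr_fun hevk r }
    let I := maximalIdeal S ^ (n + 1)
    haveI : Nontrivial (S ⧸ I) := Ideal.Quotient.nontrivial_iff.2 fun he => (maximalIdeal.isMaximal S).ne_top
      (top_le_iff.1 (he ▸ Ideal.pow_le_self n.succ_ne_zero))
    haveI : IsLocalRing (S ⧸ I) := IsLocalRing.of_surjective' _ Ideal.Quotient.mk_surjective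
    haveI : Module.Finite k (S ⧸ I) := finite_quotient_pow evA hker (n + 1)
    let εR : S ⧸ I →ₐ[k] k := Ideal.Quotient.liftₐ I evA fun r hr => by
      have hr' : r ∈ RingHom.ker ev := by rw [hker]; exact Ideal.pow_le_self n.succ_ne_zero hr
      exact hr'
    let tn : TR k (S ⧸ I) ⟶ T₀ :=
      Over.homMk (Spec.map (CommRingCat.ofHom (Ideal.Quotient.mk I)) ≫ T₀.left.fromSpecStalk (j.left y)) (by
        show _ ≫ T₀.hom = Spec.map (CommRingCat.ofHom (algebraMap k (S ⧸ I)))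
        rw [Category.assoc, ← scalAt_spec, ← Spec.map_comp]
        rfl)
    have htn : pR εR ≫ tn = τ := Over.OverMorphism.ext (by
      rw [← hevs]
      show Spec.map _ ≫ Spec.map _ ≫ _ = _
      rw [← Category.assoc, ← Spec.map_comp]
      rfl)
    let w0 : TR k (S ⧸ I) ⟶ Q := toUnit (TR k (S ⧸ I)) ≫ z0
    have hw0 : pR εR ≫ w0 = z0 := by
      rw [← Category.assoc, toUnit_unique (pR εR ≫ toUnit _) (𝟙 _), Category.id_comp]
    obtain ⟨z, hz⟩ := hc.exists_point_artin g hg hgQ εR (e := pl (A ◁ tn) x * pl (A ◁ w0⁻¹) c)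
      (PicMul.isInvertibleCl_mul (isInv_pl _ hx) (isInv_pl _ hc.inv)) (by
        rw [map_mul, pl_pl, pl_pl, ← MonoidalCategory.whiskerLeft_comp, ← MonoidalCategory.whiskerLeft_comp, htn,
          GrpObj.comp_inv, hw0, h0])
    have hxz : pl (A ◁ tn) x = pl (A ◁ (z * w0)) c := by
      rw [hc.add, ← hz, _root_.mul_assoc, _root_.mul_comm (pl (A ◁ w0⁻¹) c), hc.inv_mul, _root_.mul_one]
    obtain ⟨v, hv⟩ := (hZ' _ tn (z * w0)).2 (by rw [hxz]; exact hc.cls_self _)
    refine ⟨v.left, ?_⟩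
    have h' : v ≫ j = tn := by
      rw [show v ≫ j = (v ≫ i) ≫ fst T₀ Q from (Category.assoc _ _ _).symm, hv, lift_fst]
    exact congrArg CommaMorphism.left h'
  let V := j.left.opensRange
  refine ⟨V, ?_, fun Ω _ _ p hp => ?_⟩
  · let s : V.toScheme ⟶ Z.left := IsOpenImmersion.lift j.left V.ι (by rw [Scheme.Opens.range_ι]; exact le_rfl)
    have hs : s ≫ j.left = V.ι := IsOpenImmersion.lift_fac _ _ _
    let v0 : AbDual.ovr T₀ V.ι ⟶ Z := Over.homMk s (by
      show s ≫ Z.hom = V.ι ≫ T₀.hom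
      rw [← Over.w j, ← Category.assoc, hs])
    refine ⟨v0 ≫ i ≫ snd T₀ Q, ?_⟩
    have h := hcls v0
    rwa [show v0 ≫ i ≫ fst T₀ Q = AbDual.ovrHom T₀ V.ι from Over.OverMorphism.ext hs] at h
  · by_contra hpV
    let X₂ := A ⊗ A
    haveI : IsProper (fst A A).left := inferInstanceAs (IsProper (pullback.fst A.hom A.hom))
    haveI : IsProper X₂.hom := by rw [← Over.w (fst A A)]; infer_instance
    haveI : GeometricallyIntegral X₂.hom := MaxAbelian.geometricallyIntegral_tensor A A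
    let m : X₂ ⟶ A := fst A A * snd A A
    obtain ⟨D, hD, hDinv⟩ := AVPair.exists_inv
      (PicMul.isInvertibleCl_mul (isInv_pl (fst A A ▷ T₀) hx) (isInv_pl (snd A A ▷ T₀) hx))
    obtain ⟨Z₂, i₂, hi₂, hZ₂⟩ := exists_lt_locus (X := X₂) T₀ (e := pl (m ▷ T₀) x * D)
      (PicMul.isInvertibleCl_mul (isInv_pl _ hx) hD)
    haveI := hi₂
    haveI : LocallyOfFiniteType Z₂.hom := by rw [← Over.w i₂]; infer_instance
    have hnat : ∀ {T : Over (Spec (CommRingCat.of k))} (a : T ⟶ T₀) (f : X₂ ⟶ A),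
        pl (X₂ ◁ a) (pl (f ▷ T₀) x) = pl (f ▷ T) (pl (A ◁ a) x) := fun {T} a f => by
      rw [pl_pl, pl_pl, whisker_exchange]
    -- the point satisfies the additivity
    have hfac : p (closedPoint Ω) ∈ Set.range i₂.left := by
      let a := AbDual.ovrHom T₀ p
      haveI := AbDualBase.geometricallyIntegral_fibre (p ≫ T₀.hom) A
      have hadd : pl (m ▷ AbDual.ovr T₀ p) (pl (A ◁ a) x) =
          pl (fst A A ▷ AbDual.ovr T₀ p) (pl (A ◁ a) x) * pl (snd A A ▷ AbDual.ovr T₀ p) (pl (A ◁ a) x) := by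
        have h := AbDualBase.pull_mul (A := X₂) (B := A) (p ≫ T₀.hom) (fst A A) (snd A A) hp
        simp only [PicZeroPrim.bcMap_eq] at h
        exact h
      obtain ⟨v, hv⟩ := (hZ₂ _ a).2 (LT.of_eq_one (by
        rw [map_mul, hnat, hadd, ← hnat, ← hnat, ← map_mul, ← map_mul, hDinv, map_one]))
      exact ⟨v.left (closedPoint Ω), by
        rw [← Scheme.Hom.comp_apply, ← Over.comp_left, hv]
        rfl⟩
    obtain ⟨w, hw, hwc⟩ := nonempty_inter_closedPoints (Z := Set.range i₂.left ∩ (V : Set T₀.left)ᶜ)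
      ⟨_, hfac, hpV⟩ (i₂.left.isClosedEmbedding.isClosed_range.inter V.2.isClosed_compl).isLocallyClosed
    obtain ⟨⟨y', hy'⟩, hwV⟩ := hw
    have hy'c : IsClosed ({y'} : Set Z₂.left) := by
      rw [show ({y'} : Set Z₂.left) = i₂.left ⁻¹' {w} from Set.ext fun z =>
        ⟨fun h => h ▸ hy', fun h => i₂.left.isClosedEmbedding.injective (h.trans hy'.symm)⟩]
      exact (mem_closedPoints_iff.1 hwc).preimage i₂.left.continuous
    obtain ⟨b', hb'⟩ := exists_rational hy'c
    let τ : pt₀ ⟶ T₀ := b' ≫ i₂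
    have hτw : τ.left (closedPoint k) = w := by
      show (b'.left ≫ i₂.left) (closedPoint k) = w
      rw [Scheme.Hom.comp_apply, hb', hy']
    have h1 := LT.eq_one ((hZ₂ _ τ).1 ⟨b', rfl⟩) (closedPoint k) pt₀_eq_top
    obtain ⟨y, hy⟩ : ∃ y, pl (lift (𝟙 A) (toUnit A)) (pl (A ◁ τ) x) = y := ⟨_, rfl⟩
    have hyadd : pl (fst A A * snd A A) y = pl (fst A A) y * pl (snd A A) y := by
      rw [map_mul, hnat] at h1
      have h2 : pl (fst A A ▷ pt₀) (pl (A ◁ τ) x) * pl (snd A A ▷ pt₀) (pl (A ◁ τ) x) * pl (X₂ ◁ τ) D = 1 := by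
        rw [← hnat, ← hnat, ← map_mul, ← map_mul, hDinv, map_one]
      rw [_root_.mul_comm] at h2
      have h3 : pl (m ▷ pt₀) (pl (A ◁ τ) x) =
          pl (fst A A ▷ pt₀) (pl (A ◁ τ) x) * pl (snd A A ▷ pt₀) (pl (A ◁ τ) x) := left_inv_eq_right_inv h1 h2
      have h4 := congrArg (pl (lift (𝟙 X₂) (toUnit X₂))) h3
      have e : ∀ f : X₂ ⟶ A, pl (lift (𝟙 X₂) (toUnit X₂)) (pl (f ▷ pt₀) (pl (A ◁ τ) x)) = pl f y := fun f => by
        rw [← hy]
        rw [pl_pl, pl_pl f (lift (𝟙 A) (toUnit A)), show lift (𝟙 X₂) (toUnit X₂) ≫ f ▷ pt₀ = f ≫ lift (𝟙 A) (toUnit A) from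
          CartesianMonoidalCategory.hom_ext _ _ (by simp) (toUnit_unique _ _)]
      rw [map_mul, e, e, e] at h4
      exact h4
    obtain ⟨M, hMy, hM⟩ : PicF.IsInvertibleCl y := hy ▸ isInv_pl _ (isInv_pl _ hx)
    obtain ⟨bq, hbq⟩ := hc.surj M hM fun b => by
      show pl (CubeAb.tr b) (PicF.cl M) = PicF.cl M
      rw [hMy, show CubeAb.tr b = lift (𝟙 A) (toUnit A ≫ b) ≫ (fst A A * snd A A) by
        rw [MonObj.comp_mul, lift_fst, lift_snd], ← pl_pl, hyadd, map_mul, pl_pl, pl_pl, lift_fst, lift_snd,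
        pl_id, pl_const (hMy ▸ ⟨M, rfl, hM⟩), _root_.mul_one]
    have hxτ : pl (A ◁ τ) x = pl (A ◁ bq) c := by
      have h5 := congrArg (pl (fst A pt₀)) ((hbq.trans hMy).trans hy.symm)
      rw [show lift (𝟙 A) (toUnit A ≫ bq) = lift (𝟙 A) (toUnit A) ≫ (A ◁ bq) from (lift_whiskerLeft _ _ _).symm,
        ← pl_pl] at h5
      have e : ∀ d : PicF.Cl (A ⊗ pt₀).left, pl (fst A pt₀) (pl (lift (𝟙 A) (toUnit A)) d) = d := fun d => by
        rw [pl_pl, show fst A pt₀ ≫ lift (𝟙 A) (toUnit A) = 𝟙 _ from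
          CartesianMonoidalCategory.hom_ext _ _ (by simp) (toUnit_unique _ _), pl_id]
      rw [e, e] at h5
      exact h5.symm
    obtain ⟨v, hv⟩ := (hZ' _ τ bq).2 (by rw [hxτ]; exact hc.cls_self _)
    refine hwV ⟨v.left (closedPoint k), ?_⟩
    rw [← hτw, ← Scheme.Hom.comp_apply, ← Over.comp_left, show v ≫ j = τ from
      ((Category.assoc _ _ _).symm).trans ((congrArg (· ≫ fst T₀ Q) hv).trans (lift_fst _ _))]

end Groth.Agent.AVDualExist
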