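import Groth.Agent.AVDualExist.Locus
import Groth.Agent.AVDualExist.Descend

/-!
# Existence of the dual abelian variety over an algebraically closed field
-/

noncomputable section

set_option autoImplicit false
set_option linter.style.haveILetI false
set_option linter.unusedSectionVars false
set_option backward.isDefEq.respectTransparency false
set_option backward.isDefEq.respectTransparency.types false
set_option maxHeartbeats 1000000

universe u

open CategoryTheory CategoryTheory.Limits MonoidalCategory CartesianMonoidalCategory MonObj AlgebraicGeometry TopologicalSpace IsLocalRing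

namespace Groth.Agent.AVDualExist

open Groth.Agent Groth.Agent.H23 Groth.Agent.AVPair
open scoped Groth.Agent.H23.PicMul

variable {k : Type u} [Field k] [IsAlgClosed k] {A : Over (Spec (CommRingCat.of k))} [GrpObj A] [IsProper A.hom]
  [GeometricallyIntegral A.hom] {Q : Over (Spec (CommRingCat.of k))} [GrpObj Q] [IsProper Q.hom]
  [GeometricallyIntegral Q.hom] {c : PicF.Cl (A ⊗ Q).left}

/-- Classifying points exist over affine bases. -/
theorem IsPFam.exists_cls_affine (hc : IsPFam A Q c) (g : ℕ) (hg : topologicalKrullDim ↥A.left = g)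
    (hgQ : topologicalKrullDim ↥Q.left = g) {B : Type u} [CommRing B] [Algebra k B]
    {x : PicF.Cl (A ⊗ TR k B).left} (hx : AVDual.PZ A (TR k B) x) : ∃ z : TR k B ⟶ Q, Cls c x z := by
  obtain ⟨s, π, x₀, hx₀, hπ⟩ := exists_descend A (AVDual.pz_invertible hx)
  let B₀ := GeomRedPts.gen k B s
  haveI : Algebra.FiniteType k B₀ := (Subalgebra.fg_iff_finiteType _).1 ⟨s, rfl⟩
  haveI : LocallyOfFiniteType (TR k B₀).hom :=
    (HasRingHomProperty.Spec_iff (P := @LocallyOfFiniteType)).2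
      (RingHom.finiteType_algebraMap.2 (inferInstance : Algebra.FiniteType k B₀))
  obtain ⟨V, ⟨z₀, hz₀⟩, hV⟩ := hc.exists_point_finiteType g hg hgQ (TR k B₀) hx₀
  have hmem : ∀ b : (TR k B).left, π.left b ∈ V := fun b => by
    let Ω := AlgebraicClosure ((TR k B).left.residueField b)
    let p : Spec (CommRingCat.of Ω) ⟶ (TR k B).left :=
      Spec.map (CommRingCat.ofHom (algebraMap ((TR k B).left.residueField b) Ω)) ≫ (TR k B).left.fromSpecResidueField b
    have hp : p (closedPoint Ω) = b := (TR k B).left.fromSpecResidueField_apply b _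
    let q : AbDual.ovr (TR k B₀) (p ≫ π.left) ⟶ TR k B := Over.homMk p (by
      show p ≫ (TR k B).hom = (p ≫ π.left) ≫ (TR k B₀).hom
      exact ((Category.assoc p _ _).trans (congrArg (p ≫ ·) (Over.w π))).symm)
    have h := hV Ω (p ≫ π.left) (by
      rw [show AbDual.ovrHom (TR k B₀) (p ≫ π.left) = q ≫ π from Over.OverMorphism.ext rfl,
        MonoidalCategory.whiskerLeft_comp, ← pl_pl, hπ]
      exact AVDual.pz_pl q hx)
    rwa [Scheme.Hom.comp_apply, hp] at h
  let v : (TR k B).left ⟶ V.toScheme := IsOpenImmersion.lift V.ι π.left (by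
    rw [Scheme.Opens.range_ι]
    rintro _ ⟨b, rfl⟩
    exact hmem b)
  let π' : TR k B ⟶ AbDual.ovr (TR k B₀) V.ι := Over.homMk v (by
    show v ≫ V.ι ≫ (TR k B₀).hom = _
    rw [IsOpenImmersion.lift_fac_assoc, Over.w π])
  refine ⟨π' ≫ z₀, ?_⟩
  have h := hz₀.pull π'
  rwa [pl_pl (A ◁ π'), ← MonoidalCategory.whiskerLeft_comp,
    show π' ≫ AbDual.ovrHom (TR k B₀) V.ι = π from Over.OverMorphism.ext (IsOpenImmersion.lift_fac _ _ _), hπ] at h

/-- Classifying points exist. -/
theorem IsPFam.exists_cls (hc : IsPFam A Q c) (g : ℕ) (hg : topologicalKrullDim ↥A.left = g)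
    (hgQ : topologicalKrullDim ↥Q.left = g) {T : Over (Spec (CommRingCat.of k))}
    {x : PicF.Cl (A ⊗ T).left} (hx : AVDual.PZ A T x) : ∃ z : T ⟶ Q, Cls c x z := by
  refine hc.cls_glue fun t => ?_
  obtain ⟨U, hU, htU, -⟩ := exists_isAffineOpen_mem_and_subset (U := (⊤ : T.left.Opens)) (x := t) trivial
  haveI : IsAffine U.toScheme := hU
  let B : Type u := Γ(U.toScheme, ⊤)
  let f : k →+* B := (Spec.preimage (R := CommRingCat.of k) (S := Γ(U.toScheme, ⊤))
    (U.toScheme.isoSpec.inv ≫ U.ι ≫ T.hom)).hom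
  letI : Algebra k B := f.toAlgebra
  have hf : Spec.map (CommRingCat.ofHom (algebraMap k B)) = U.toScheme.isoSpec.inv ≫ U.ι ≫ T.hom :=
    Spec.map_preimage _
  let e : AbDual.ovr T U.ι ≅ TR k B := Over.isoMk U.toScheme.isoSpec (by
    show U.toScheme.isoSpec.hom ≫ Spec.map (CommRingCat.ofHom (algebraMap k B)) = U.ι ≫ T.hom
    rw [hf, Iso.hom_inv_id_assoc])
  obtain ⟨z, hz⟩ := hc.exists_cls_affine g hg hgQ (B := B)
    (AVDual.pz_pl e.inv (AVDual.pz_pl (AbDual.ovrHom T U.ι) hx))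
  refine ⟨U, e.hom ≫ z, htU, ?_⟩
  have h := hz.pull e.hom
  rwa [pl_pl (A ◁ e.hom), ← MonoidalCategory.whiskerLeft_comp, Iso.hom_inv_id, MonoidalCategory.whiskerLeft_id,
    pl_id] at h

open Classical in
/-- The classifying point of a class (or the trivial point when there is none). -/
def phi (c : PicF.Cl (A ⊗ Q).left) (T : Over (Spec (CommRingCat.of k))) (x : PicF.Cl (PicF.XT A.hom T)) :
    T ⟶ Q :=
  if h : ∃ z : T ⟶ Q, Cls c (x : PicF.Cl (A ⊗ T).left) z then h.choose else 1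

theorem IsPFam.phi_eq (hc : IsPFam A Q c) {T : Over (Spec (CommRingCat.of k))} {x : PicF.Cl (A ⊗ T).left}
    {z : T ⟶ Q} (h : Cls c x z) : phi c T x = z := by
  have h' : ∃ z, Cls c x z := ⟨z, h⟩
  rw [phi, dif_pos h']
  exact hc.cls_unique h'.choose_spec h

/-- **The parameter space is the dual.** -/
theorem IsPFam.isDualAV (hc : IsPFam A Q c) (g : ℕ) (hg : topologicalKrullDim ↥A.left = g)
    (hgQ : topologicalKrullDim ↥Q.left = g) :
    AbDual.IsDualAV Scheme.fppfPrecoverage A Q (phi c) := by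
  refine ⟨⟨fun T T' v x hx => ?_, fun T v => ?_, fun T x x' hx hx' h => ?_⟩, fun T L M hL hM => ?_⟩
  · obtain ⟨z, hz⟩ := hc.exists_cls g hg hgQ hx
    rw [hc.phi_eq hz, AVDual.xtMap_eq]
    exact hc.phi_eq (hz.pull v)
  · refine ⟨Presieve.singleton (𝟙 T.left), Precoverage.mem_coverings_of_isIso (𝟙 T.left), ?_⟩
    rintro U _ ⟨⟩
    exact ⟨pl (A ◁ (AbDual.ovrHom T (𝟙 T.left) ≫ v)) c, AVDual.pz_pl _ hc.pz, hc.phi_eq (hc.cls_self _)⟩
  · obtain ⟨z, hz⟩ := hc.exists_cls g hg hgQ hx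
    obtain ⟨z', hz'⟩ := hc.exists_cls g hg hgQ hx'
    rw [hc.phi_eq hz, hc.phi_eq hz'] at h
    subst h
    choose U hU e using hz
    choose V hV e' using hz'
    refine ⟨Presieve.ofArrows (fun t => (U t ⊓ V t).toScheme) (fun t => (U t ⊓ V t).ι), ?_, ?_⟩
    · refine (Scheme.ofArrows_mem_precoverage_iff _).2 ⟨fun t => ⟨t, ⟨t, hU t, hV t⟩, rfl⟩,
        fun _ => ⟨inferInstance, inferInstance⟩⟩
    rintro _ _ ⟨t⟩
    rw [AVDual.xtMap_eq]
    let i := AbDual.ovrHom T (U t ⊓ V t).ι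
    have e1 : pl (A ◁ i) x * pl (A ◁ i) (pl (A ◁ z⁻¹) c) = 1 := by
      rw [← map_mul]
      exact pl_ovr_mono inf_le_left (e t)
    have e2 : pl (A ◁ i) x' * pl (A ◁ i) (pl (A ◁ z⁻¹) c) = 1 := by
      rw [← map_mul]
      exact pl_ovr_mono inf_le_right (e' t)
    show pl (A ◁ i) x = pl (A ◁ i) x'
    exact left_inv_eq_right_inv (a := pl (A ◁ i) (pl (A ◁ z⁻¹) c)) e1 (by rw [_root_.mul_comm]; exact e2)
  · obtain ⟨z, hz⟩ := hc.exists_cls g hg hgQ hL
    obtain ⟨w, hw⟩ := hc.exists_cls g hg hgQ hM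
    rw [hc.phi_eq hz, hc.phi_eq hw]
    refine hc.phi_eq ?_
    rw [show (PicF.cl (CohB1.tensorMod L M) : PicF.Cl (A ⊗ T).left) = PicF.cl L * PicF.cl M from PicMul.cl_tensor _ _]
    exact hc.cls_mul hz hw

end Groth.Agent.AVDualExist
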