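import Groth.Agent.AVDualCx.Poincare

/-!
# Stalks at rational points
-/

noncomputable section

set_option autoImplicit false
set_option linter.style.haveILetI false
set_option linter.unusedSectionVars false
set_option backward.isDefEq.respectTransparency false
set_option backward.isDefEq.respectTransparency.types false
set_option maxHeartbeats 800000

universe u

open CategoryTheory CategoryTheory.Limits MonoidalCategory CartesianMonoidalCategory MonObj AlgebraicGeometry TopologicalSpace IsLocalRing

namespace Groth.Agent.AVDualExist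

open Groth.Agent Groth.Agent.AVDualCx

/-- A map out of the spectrum of a local ring factors through the stalk at the image of the closed point. -/
theorem exists_stalk_hom {X : Scheme.{u}} {C : Type u} [CommRing C] [IsLocalRing C]
    (f : Spec (CommRingCat.of C) ⟶ X) {y : X} (hy : f (closedPoint C) = y) :
    ∃ a : X.presheaf.stalk y →+* C, Spec.map (CommRingCat.ofHom a) ≫ X.fromSpecStalk y = f := by
  subst hy
  exact ⟨(Scheme.stalkClosedPointTo f).hom, Scheme.Spec_stalkClosedPointTo_fromSpecStalk f⟩

variable {k : Type u} [Field k] {X : Over (Spec (CommRingCat.of k))}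

local notation "pt₀" => 𝟙_ (Over (Spec (CommRingCat.of k)))

/-- Closed points are rational. -/
theorem exists_rational [IsAlgClosed k] [LocallyOfFiniteType X.hom] {x : X.left}
    (hx : IsClosed ({x} : Set X.left)) : ∃ a : pt₀ ⟶ X, a.left (closedPoint k) = x := by
  obtain ⟨p, hp⟩ := (pointEquivClosedPoint X.hom).surjective ⟨x, hx⟩
  exact ⟨Over.homMk p.1 p.2, congrArg Subtype.val hp⟩

/-- Rational points are closed. -/
theorem isClosed_rational [IsAlgClosed k] [LocallyOfFiniteType X.hom] (a : pt₀ ⟶ X) :
    IsClosed ({a.left (closedPoint k)} : Set X.left) :=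
  ((pointEquivClosedPoint X.hom) ⟨a.left, Over.w a⟩).2

/-- Evaluation at a rational point. -/
theorem exists_ev (σ : pt₀ ⟶ X) {s : X.left} (hs : σ.left (closedPoint k) = s) :
    ∃ ev : X.left.presheaf.stalk s →+* k, RingHom.ker ev = maximalIdeal (X.left.presheaf.stalk s) ∧
      ev.comp (scalAt X s) = RingHom.id k ∧ Spec.map (CommRingCat.ofHom ev) ≫ X.left.fromSpecStalk s = σ.left := by
  obtain ⟨ev, hev⟩ := exists_stalk_hom (C := k) σ.left hs
  have h : ev.comp (scalAt X s) = RingHom.id k := by
    refine congrArg CommRingCat.Hom.hom (Spec.map_injective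
      (show Spec.map (CommRingCat.ofHom (ev.comp (scalAt X s))) = Spec.map (𝟙 (CommRingCat.of k)) from ?_))
    rw [CommRingCat.ofHom_comp, Spec.map_comp, scalAt_spec, ← Category.assoc, hev, Spec.map_id]
    exact Over.w σ
  haveI : (RingHom.ker ev).IsMaximal :=
    RingHom.ker_isMaximal_of_surjective _ fun x => ⟨scalAt X s x, RingHom.congr_fun h x⟩
  exact ⟨ev, IsLocalRing.eq_maximalIdeal inferInstance, h, hev⟩

/-- The slice of a product at a rational point. -/
theorem isPullback_slice {A B : Over (Spec (CommRingCat.of k))} (b : pt₀ ⟶ B) :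
    IsPullback (lift (𝟙 A) (toUnit A ≫ b)).left A.hom (snd A B).left b.left := by
  refine IsPullback.of_right (h₁₂ := (fst A B).left) (v₁₃ := A.hom) (h₂₂ := B.hom) ?_ ?_
    (IsPullback.of_hasPullback A.hom B.hom)
  · rw [← Over.comp_left, lift_fst, Over.id_left, Over.w]
    haveI : IsIso (𝟙_ (Over (Spec (CommRingCat.of k)))).hom := inferInstanceAs (IsIso (𝟙 _))
    exact IsPullback.of_horiz_isIso ⟨by simp⟩
  · rw [← Over.comp_left, lift_snd, Over.comp_left, Over.toUnit_left]

/-- The constants are compatible with morphisms out of stalks. -/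
theorem comp_scalAt {C : Type u} [CommRing C] {s : X.left} (a : X.left.presheaf.stalk s →+* C) (c : k →+* C)
    {f : Spec (CommRingCat.of C) ⟶ X.left} (ha : Spec.map (CommRingCat.ofHom a) ≫ X.left.fromSpecStalk s = f)
    (hc : f ≫ X.hom = Spec.map (CommRingCat.ofHom c)) : a.comp (scalAt X s) = c := by
  refine congrArg CommRingCat.Hom.hom (Spec.map_injective
    (show Spec.map (CommRingCat.ofHom (a.comp (scalAt X s))) = Spec.map (CommRingCat.ofHom c) from ?_))
  rw [CommRingCat.ofHom_comp, Spec.map_comp, scalAt_spec, ← Category.assoc, ha, hc]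

/-- Morphisms out of a stalk into two rings agree when they give the same morphism. -/
theorem stalk_hom_ext {Y : Scheme.{u}} {y : Y} {C : Type u} [CommRing C] {a b : Y.presheaf.stalk y →+* C}
    (h : Spec.map (CommRingCat.ofHom a) ≫ Y.fromSpecStalk y = Spec.map (CommRingCat.ofHom b) ≫ Y.fromSpecStalk y) :
    a = b :=
  congrArg CommRingCat.Hom.hom (Spec.map_injective ((cancel_mono _).1 h))

end Groth.Agent.AVDualExist
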