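import Groth.Agent.AVDualExist.Exists
import Groth.Agent.GrpSchLib.RigidHom
import Groth.Agent.GrpSchLib.AntiAffine

/-!
# Every given dual is the parameter space
-/

noncomputable section

set_option autoImplicit false
set_option linter.style.haveILetI false
set_option linter.unusedSectionVars false
set_option backward.isDefEq.respectTransparency false
set_option backward.isDefEq.respectTransparency.types false
set_option maxHeartbeats 1000000

universe u

open CategoryTheory CategoryTheory.Limits MonoidalCategory CartesianMonoidalCategory MonObj AlgebraicGeometry TopologicalSpace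

namespace Groth.Agent.AVDualExist

open Groth.Agent Groth.Agent.H23 Groth.Agent.AVPair
open scoped Groth.Agent.H23.PicMul

variable {k : Type u} [Field k] {A : Over (Spec (CommRingCat.of k))} {Q At : Over (Spec (CommRingCat.of k))}
  [GrpObj Q] [GrpObj At] {ψ : AgPol.DualMap A Q} {φ : AgPol.DualMap A At}

/-- Two duals are isomorphic. -/
theorem exists_iso_dual (hQ : AbDual.IsDualAV Scheme.fppfPrecoverage A Q ψ)
    (hφ : AbDual.IsDualAV Scheme.fppfPrecoverage A At φ) :
    ∃ e : Q ≅ At, ∀ (T : Over (Spec (CommRingCat.of k))) (x : PicF.Cl (PicF.XT A.hom T)),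
      AbDual.IsPicZeroCl A.hom T x → ψ T x ≫ e.hom = φ T x := by
  obtain ⟨a, ha⟩ := AbDualBase.exists_hom hQ φ hφ.relPic.natural
  obtain ⟨b, hb⟩ := AbDualBase.exists_hom hφ ψ hQ.relPic.natural
  refine ⟨⟨a, b, ?_, ?_⟩, ha⟩
  · refine AbDualBase.dual_hom_ext hQ fun T x hx => ?_
    rw [← Category.assoc, ha T x hx, hb T x hx, Category.comp_id]
  · refine AbDualBase.dual_hom_ext hφ fun T x hx => ?_
    rw [← Category.assoc, hb T x hx, ha T x hx, Category.comp_id]

/-- Two duals are isomorphic as groups, and the given one is an abelian variety when the other is. -/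
theorem exists_iso_dual_group [IsAlgClosed k] [IsProper Q.hom] [GeometricallyIntegral Q.hom]
    (hQ : AbDual.IsDualAV Scheme.fppfPrecoverage A Q ψ) (hφ : AbDual.IsDualAV Scheme.fppfPrecoverage A At φ) :
    ∃ e : Q ≅ At, IsMonHom e.hom ∧ IsProper At.hom ∧ GeometricallyIntegral At.hom ∧
      ∀ (T : Over (Spec (CommRingCat.of k))) (x : PicF.Cl (PicF.XT A.hom T)),
        AbDual.IsPicZeroCl A.hom T x → ψ T x ≫ e.hom = φ T x := by
  obtain ⟨e, he⟩ := exists_iso_dual hQ hφ
  haveI : IsIso e.inv.left := inferInstanceAs (IsIso ((Over.forget _).map e.inv))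
  have hp : IsProper At.hom := by
    rw [← Over.w e.inv]
    infer_instance
  have hg : GeometricallyIntegral At.hom := by
    rw [← Over.w e.inv]
    exact (MorphismProperty.cancel_left_of_respectsIso @GeometricallyIntegral _ _).2 inferInstance
  haveI : IsSeparated At.hom := inferInstance
  refine ⟨e, GrpSchLib.RigidHom.isMonHom_of_one e.hom ?_, hp, hg, he⟩
  have h := he (𝟙_ _) 1 (AbDualBase.pz_one _)
  rw [AbDualBase.phi_one hQ, AbDualBase.phi_one hφ] at h
  rw [show η[Q] = (1 : 𝟙_ (Over (Spec (CommRingCat.of k))) ⟶ Q) from by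
    rw [Hom.one_def, toUnit_unique (toUnit _) (𝟙 _), Category.id_comp]]
  exact h

/-- A given dual of an abelian variety over an algebraically closed field is an abelian variety. -/
theorem isAV_of_isDualAV [IsAlgClosed k] [GrpObj A] [IsProper A.hom] [GeometricallyIntegral A.hom]
    (g : ℕ) (hg : topologicalKrullDim ↥A.left = g) (hφ : AbDual.IsDualAV Scheme.fppfPrecoverage A At φ) :
    IsProper At.hom ∧ GeometricallyIntegral At.hom ∧ topologicalKrullDim ↥At.left = g := by
  obtain ⟨Q, _, ψ, q, hQp, hQg, hQab, -, -, -, -, hQ⟩ := exists_dual A g hg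
  haveI := hQp; haveI := hQg
  obtain ⟨e, -, hp, hg', -⟩ := exists_iso_dual_group hQ hφ
  haveI := hp; haveI := hg'
  haveI : Nonempty ↥(Spec (CommRingCat.of k)) := inferInstanceAs (Nonempty (PrimeSpectrum k))
  refine ⟨hp, hg', ?_⟩
  rw [← hQab.fibreDim (Classical.arbitrary _), dim_fiber]
  exact (TopCat.homeoOfIso (Scheme.forgetToTop.mapIso ((Over.forget _).mapIso e))).symm.isHomeomorph.topologicalKrullDim_eq

end Groth.Agent.AVDualExist
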